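import Cfsg.Agent.Lib.Blocks.DefectTwo.OneForm
import Cfsg.Agent.Lib.Blocks.InflationRank
import Cfsg.Agent.Lib.Blocks.RankBasics
import Cfsg.Agent.Lib.Transfer.Hall

/-!
# The regular form of a block of defect two over a central element of order `p`

The Brauer characters of a block over a central `p`-subgroup are integral combinations of those
inflated from the quotient, so the form descends to the block of the quotient.
-/

set_option linter.unusedSectionVars false

namespace Cfsg.Agent.DefectTwo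

open Cfsg.Agent.Blocks CT
open scoped ComplexConjugate

universe u

section RegComp

variable {H : Type u} [Group H] [Finite H] {p : ℕ} [hp : Fact p.Prime]

/-- The regular component of an element. -/
noncomputable def regComp (p : ℕ) [Fact p.Prime] (g : H) : H :=
  (exists_isPPart (p := p) g).choose⁻¹ * g

theorem regComp_eq {g x y : H} (hxy : x * y = g) (hcom : Commute x y)
    (hx : ∃ k : ℕ, x ^ p ^ k = 1) (hy : ¬ p ∣ orderOf y) : regComp p g = y := by
  have h := isPPart_mk (p := p) hcom hx hy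
  rw [hxy] at h
  rw [regComp, ppart_unique (exists_isPPart (p := p) g).choose_spec.1 h, ← hxy, inv_mul_cancel_left]

theorem regComp_spec (g : H) :
    ∃ x : H, x * regComp p g = g ∧ Commute x (regComp p g) ∧ (∃ k : ℕ, x ^ p ^ k = 1) ∧
      ¬ p ∣ orderOf (regComp p g) := by
  obtain ⟨x, hx, -⟩ := exists_isPPart (p := p) g
  obtain ⟨y, hxy, hcom, ⟨k, hk⟩, hy⟩ := id hx
  have hk' : ∃ k : ℕ, x ^ p ^ k = 1 := ⟨k, by rw [← hk, pow_orderOf_eq_one]⟩
  rw [regComp_eq hxy hcom hk' hy]
  exact ⟨x, hxy, hcom, hk', hy⟩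

theorem regComp_of_regular {g : H} (hg : ¬ p ∣ orderOf g) : regComp p g = g :=
  regComp_eq (one_mul g) (Commute.one_left g) ⟨0, by simp⟩ hg

theorem regComp_conj (c g : H) : regComp p (c * g * c⁻¹) = c * regComp p g * c⁻¹ := by
  obtain ⟨x, hxy, hcom, ⟨k, hk⟩, hy⟩ := regComp_spec (p := p) g
  refine regComp_eq (x := c * x * c⁻¹) ?_ ?_ ⟨k, by rw [conj_pow, hk, mul_one, mul_inv_cancel]⟩ ?_
  · conv_rhs => rw [← hxy]
    group
  · exact (SemiconjBy.conj_iff.mpr hcom : _)
  · rwa [← MulAut.conj_apply, MulEquiv.orderOf_eq]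

end RegComp

variable {G : Type u} [Group G] [Fintype G] {p : ℕ} [hp : Fact p.Prime] {N : Subgroup G} [N.Normal]

/-- The regular lifts of a subgroup of order prime to `p` form a homomorphism. -/
theorem exists_lift_hom (hN : IsPGroup p N)
    (hC : ∃ k : ℕ, (Subgroup.centralizer (N : Set G)).index = p ^ k) (Q : Subgroup (G ⧸ N))
    (hQ : ¬ p ∣ Nat.card Q) {l : G ⧸ N → G}
    (hl : ∀ x, ¬ p ∣ orderOf x → ¬ p ∣ orderOf (l x) ∧ (l x : G ⧸ N) = x) :
    ∃ s : Q →* G, ∀ q : Q, s q = l q := by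
  have hreg : ∀ q : Q, ¬ p ∣ orderOf ((q : G ⧸ N)) := fun q h =>
    hQ (h.trans (Subgroup.orderOf_dvd_natCard Q q.2))
  set L := Q.comap (QuotientGroup.mk' N) with hL
  have hNL : N ≤ L := fun v hv => by
    show (v : G ⧸ N) ∈ Q
    rw [(QuotientGroup.eq_one_iff v).mpr hv]
    exact one_mem Q
  let g : L →* Q := ((QuotientGroup.mk' N).comp L.subtype).codRestrict Q fun v => v.2
  have hgker : g.ker = N.subgroupOf L := by
    ext v
    rw [MonoidHom.mem_ker, Subgroup.mem_subgroupOf, ← QuotientGroup.eq_one_iff, Subtype.ext_iff]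
    rfl
  have hgs : g.range = ⊤ := MonoidHom.range_eq_top.mpr fun q => by
    obtain ⟨v, hv⟩ := QuotientGroup.mk_surjective (q : G ⧸ N)
    exact ⟨⟨v, show (v : G ⧸ N) ∈ Q from hv ▸ q.2⟩, Subtype.ext hv⟩
  have hidx : (N.subgroupOf L).index = Nat.card Q := by
    rw [← hgker, Subgroup.index_ker, hgs]
    exact Nat.card_congr Subgroup.topEquiv.toEquiv
  obtain ⟨k, hk⟩ := IsPGroup.iff_card.mp hN
  haveI : (N.subgroupOf L).Normal := hgker ▸ g.normal_ker
  have hcop : (Nat.card (N.subgroupOf L)).Coprime (N.subgroupOf L).index := by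
    rw [Nat.card_congr (Subgroup.subgroupOfEquivOfLe hNL).toEquiv, hk, hidx]
    exact (hp.out.coprime_iff_not_dvd.mpr hQ).pow_left _
  obtain ⟨K, hK⟩ := Subgroup.exists_right_complement'_of_coprime hcop
  have hKreg : ∀ v ∈ K, ¬ p ∣ orderOf ((v : L) : G) := fun v hv h => by
    rw [Subgroup.orderOf_coe] at h
    refine hQ (h.trans ((Subgroup.orderOf_dvd_natCard K hv).trans ?_))
    rw [← hK.symm.index_eq_card, hidx]
  have hmem : ∀ q : Q, ∃ v ∈ K, ((v : L) : G) = l q := by
    intro q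
    obtain ⟨v, hv⟩ := QuotientGroup.mk_surjective (q : G ⧸ N)
    obtain ⟨⟨⟨a, ha⟩, ⟨c, hc⟩⟩, hac⟩ := hK.2 (⟨v, show (v : G ⧸ N) ∈ Q from hv ▸ q.2⟩ : L)
    refine ⟨c, hc, regular_lift_unique hN hC (hKreg c hc) (hl _ (hreg q)).1 ?_⟩
    rw [(hl _ (hreg q)).2, ← hv]
    have e : (a : G) * (c : G) = v := congrArg Subtype.val hac
    rw [← e, QuotientGroup.mk_mul, (QuotientGroup.eq_one_iff (a : G)).mpr ha, one_mul]
  choose v hvK hv using hmem
  refine ⟨MonoidHom.mk' (fun q => l q) fun a b => ?_, fun q => rfl⟩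
  rw [← hv a, ← hv b]
  refine regular_lift_unique hN hC (hl _ (hreg (a * b))).1 ?_ ?_
  · rw [← Subgroup.coe_mul]
    exact hKreg _ (mul_mem (hvK a) (hvK b))
  · rw [(hl _ (hreg (a * b))).2, QuotientGroup.mk_mul, hv a, hv b, (hl _ (hreg a)).2,
      (hl _ (hreg b)).2, Subgroup.coe_mul]

variable [Fintype (G ⧸ N)]

/-- A character extended from the regular lifts is a generalized character of the quotient. -/
theorem isGen_lift (hN : IsPGroup p N)
    (hC : ∃ k : ℕ, (Subgroup.centralizer (N : Set G)).index = p ^ k) (η : IrrCharacter G)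
    {l : G ⧸ N → G} (hl : ∀ x, ¬ p ∣ orderOf x → ¬ p ∣ orderOf (l x) ∧ (l x : G ⧸ N) = x) :
    IsGeneralizedCharacter (G ⧸ N) fun x => (η : G → ℂ) (l (regComp p x)) := by
  classical
  have hr : ∀ x : G ⧸ N, ¬ p ∣ orderOf (regComp p x) := fun x => (regComp_spec x).choose_spec.2.2.2
  refine CT.isGen_of_restrict_elementary (fun x c => ?_) fun E q hq hE => ?_
  · obtain ⟨d, rfl⟩ := QuotientGroup.mk_surjective c
    show (η : G → ℂ) (l (regComp p _)) = (η : G → ℂ) (l (regComp p x))
    rw [regComp_conj]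
    have hreg : ¬ p ∣ orderOf ((d : G ⧸ N) * regComp p x * (d : G ⧸ N)⁻¹) := by
      rw [← MulAut.conj_apply, MulEquiv.orderOf_eq]; exact hr x
    rw [regular_lift_unique hN hC (hl _ hreg).1 (g' := d * l (regComp p x) * d⁻¹) ?_ ?_,
      isClassFn_irr η (l (regComp p x)) d]
    · rw [← MulAut.conj_apply, MulEquiv.orderOf_eq]; exact (hl _ (hr x)).1
    · rw [(hl _ hreg).2, QuotientGroup.mk_mul, QuotientGroup.mk_mul, QuotientGroup.mk_inv,
        (hl _ (hr x)).2]
  haveI := CT.isNilpotent_of_isElementary hq hE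
  obtain ⟨P⟩ : Nonempty (Sylow p E) := inferInstance
  haveI hPn : (P : Subgroup E).Normal :=
    P.normal_of_normalizerCondition normalizerCondition_of_isNilpotent
  have hcop : (Nat.card (P : Subgroup E)).Coprime (P : Subgroup E).index := by
    rw [P.card_eq_multiplicity]
    exact (hp.out.coprime_iff_not_dvd.mpr P.not_dvd_index).pow_left _
  obtain ⟨Q, hQ⟩ := Subgroup.exists_right_complement'_of_coprime hcop
  have hQc : ¬ p ∣ Nat.card Q := by rw [← hQ.symm.index_eq_card]; exact P.not_dvd_index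
  have hcomm : ∀ (z : (P : Subgroup E)) (h : Q),
      Commute ((P : Subgroup E).subtype z) (Q.subtype h) := fun z h => by
    refine Transfer.commute_of_coprime_of_nilpotent ?_
    exact (hcop.coprime_dvd_left (Subgroup.orderOf_dvd_natCard _ z.2)).coprime_dvd_right
      (by rw [hQ.symm.index_eq_card]; exact Subgroup.orderOf_dvd_natCard _ h.2)
  let e : (↥(P : Subgroup E) × ↥Q) ≃* E := MulEquiv.ofBijective
    (MonoidHom.noncommCoprod (P : Subgroup E).subtype Q.subtype hcomm) hQ
  let Q' : Subgroup (G ⧸ N) := Q.map E.subtype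
  have hQ'c : ¬ p ∣ Nat.card Q' := by
    rwa [Subgroup.card_map_of_injective E.subtype_injective]
  obtain ⟨s, hs⟩ := exists_lift_hom hN hC Q' hQ'c hl
  let ι : Q →* Q' :=
    { toFun := fun h => ⟨((h : E) : G ⧸ N), ⟨(h : E), h.2, rfl⟩⟩
      map_one' := rfl
      map_mul' := fun _ _ => rfl }
  have hch := CT.isCharacter_comp ((s.comp ι).comp ((MonoidHom.snd _ _).comp e.symm.toMonoidHom))
    (CT.isCharacter_of_isIrr η.2)
  convert CT.isGen_of_isCharacter hch using 1
  funext x
  obtain ⟨⟨z, h⟩, rfl⟩ := e.surjective x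
  simp only [Function.comp_apply, MonoidHom.coe_comp, MulEquiv.coe_toMonoidHom,
    MulEquiv.symm_apply_apply, MonoidHom.coe_snd, hs]
  have hreg : ¬ p ∣ orderOf (((h : E)) : G ⧸ N) := fun hd => hQc
    (hd.trans (by rw [Subgroup.orderOf_coe]; exact Subgroup.orderOf_dvd_natCard Q h.2))
  obtain ⟨k, hk⟩ := P.2 z
  rw [regComp_eq (x := (((z : (P : Subgroup E)) : E) : G ⧸ N)) (y := ((h : E) : G ⧸ N))
    (by rfl) ((hcomm z h).map E.subtype)
    ⟨k, by simpa using congrArg (fun w : (P : Subgroup E) => ((w : E) : G ⧸ N)) hk⟩ hreg]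
  rfl

/-- The regular pairing of inflated characters. -/
theorem bfPair_inflIrr (hN : IsPGroup p N)
    (hC : ∃ k : ℕ, (Subgroup.centralizer (N : Set G)).index = p ^ k) (χ ψ : IrrCharacter (G ⧸ N)) :
    (Nat.card N : ℂ) * bfPair p (inflIrr χ) (inflIrr ψ) = bfPair p χ ψ := by
  classical
  have hsum : regPair p (inflIrr χ) (inflIrr ψ) = regPair p χ ψ := by
    simp only [regPair]
    rw [← Finset.sum_filter_not_add_sum_filter Finset.univ (fun g : G => p ∣ orderOf g),
      ← Finset.sum_filter_not_add_sum_filter Finset.univ (fun g : G ⧸ N => p ∣ orderOf g),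
      Finset.sum_eq_zero (s := Finset.univ.filter fun g : G => p ∣ orderOf g)
        fun g hg => if_pos (Finset.mem_filter.mp hg).2,
      Finset.sum_eq_zero (s := Finset.univ.filter fun g : G ⧸ N => p ∣ orderOf g)
        fun g hg => if_pos (Finset.mem_filter.mp hg).2, add_zero, add_zero]
    have hreg : ∀ g : G, ¬ p ∣ orderOf g → ¬ p ∣ orderOf (g : G ⧸ N) := fun g hg hd =>
      hg (hd.trans (orderOf_map_dvd (QuotientGroup.mk' N) g))
    refine Finset.sum_bij (fun g _ => (g : G ⧸ N))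
      (fun g hg => Finset.mem_filter.mpr ⟨Finset.mem_univ _, hreg g (Finset.mem_filter.mp hg).2⟩)
      (fun a ha b hb h => regular_lift_unique hN hC (Finset.mem_filter.mp ha).2
        (Finset.mem_filter.mp hb).2 h) (fun x hx => ?_) fun g hg => ?_
    · obtain ⟨g, hg, rfl⟩ := exists_regular_lift (N := N) (Finset.mem_filter.mp hx).2
      exact ⟨g, Finset.mem_filter.mpr ⟨Finset.mem_univ _, hg⟩, rfl⟩
    · rw [if_neg (Finset.mem_filter.mp hg).2, if_neg (hreg g (Finset.mem_filter.mp hg).2)]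
      simp
  rw [bfPair_eq, bfPair_eq, hsum, Subgroup.card_eq_card_quotient_mul_card_subgroup N, Nat.cast_mul,
    mul_inv]
  field_simp

variable {M : Ideal AlgInt} [M.IsPrime]

open Classical in
/-- Regular restrictions are integral combinations of inflated ones. -/
theorem exists_int_lift (hM : IsPModular p M) (hN : IsPGroup p N)
    (hC : ∃ k : ℕ, (Subgroup.centralizer (N : Set G)).index = p ^ k) {b : Set (IrrCharacter G)}
    (hb : IsPBlock M b) {η : IrrCharacter G} (hη : η ∈ b) :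
    ∃ a : IrrCharacter (G ⧸ N) → ℤ, (∀ χ, inflIrr χ ∉ b → a χ = 0) ∧
      regFun p η = ∑ χ : IrrCharacter (G ⧸ N), (a χ : ℂ) • regFun p (inflIrr χ) := by
  have hlex : ∀ x : G ⧸ N, ∃ g : G,
      ¬ p ∣ orderOf x → (¬ p ∣ orderOf g ∧ (g : G ⧸ N) = x) := fun x =>
    if h : ¬ p ∣ orderOf x then (exists_regular_lift (N := N) h).imp fun g hg _ => hg
    else ⟨1, fun h' => absurd h' h⟩
  choose l hl using hlex
  have hgen := isGen_lift hN hC η hl
  have hcl : IsClassFunction (G ⧸ N) fun x => (η : G → ℂ) (l (regComp p x)) :=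
    (CT.isGen_iff.mp hgen).1
  choose a ha using (CT.isGen_iff.mp hgen).2
  have hreg : ∀ g : G, ¬ p ∣ orderOf g → ¬ p ∣ orderOf (g : G ⧸ N) := fun g hg hd =>
    hg (hd.trans (orderOf_map_dvd (QuotientGroup.mk' N) g))
  have hsum : regFun p η = ∑ χ : IrrCharacter (G ⧸ N), (a χ : ℂ) • regFun p (inflIrr χ) := by
    funext g
    simp only [Finset.sum_apply, Pi.smul_apply, smul_eq_mul, regFun, inflIrr_apply]
    split_ifs with hg
    · simp
    · have h := congrFun (CT.classFunction_eq_sum hcl) (g : G ⧸ N)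
      simp only [Finset.sum_apply, Pi.smul_apply, smul_eq_mul, ha] at h
      rw [regComp_of_regular (hreg g hg),
        regular_lift_unique hN hC (hl _ (hreg g hg)).1 hg (hl _ (hreg g hg)).2] at h
      exact h
  refine ⟨fun χ => if inflIrr χ ∈ b then a χ else 0, fun χ h => if_neg h, ?_⟩
  set v := regFun p η - ∑ χ : IrrCharacter (G ⧸ N),
    (((if inflIrr χ ∈ b then a χ else 0 : ℤ)) : ℂ) • regFun p (inflIrr χ) with hv
  have hv2 : v = ∑ χ : IrrCharacter (G ⧸ N),
      (((if inflIrr χ ∈ b then 0 else a χ : ℤ)) : ℂ) • regFun p (inflIrr χ) := by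
    rw [hv, hsum, ← Finset.sum_sub_distrib]
    refine Finset.sum_congr rfl fun χ _ => ?_
    by_cases h : inflIrr χ ∈ b <;> simp [h]
  have hz : classInner v v = 0 := by
    conv_lhs => arg 2; rw [hv2]
    rw [CT.classInner_sum_right]
    refine Finset.sum_eq_zero fun χ _ => ?_
    rw [CT.classInner_smul_right]
    by_cases h : inflIrr χ ∈ b
    · simp [h]
    rw [hv, CT.classInner_sub_left, CT.classInner_sum_left, classInner_regFun,
      bfPair_zero_of_mem hM hb hη h, Finset.sum_eq_zero fun χ' _ => by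
        by_cases h' : inflIrr χ' ∈ b
        · rw [CT.classInner_smul_left, classInner_regFun, bfPair_zero_of_mem hM hb h' h, mul_zero]
        · rw [if_neg h', CT.classInner_smul_left, Int.cast_zero, zero_mul]]
    simp
  exact sub_eq_zero.mp (CT.classInner_self_eq_zero hz)

omit [N.Normal] [Fintype (G ⧸ N)] in
open Classical in
/-- In a block of defect two over a central element of order `p` the regular form is zero or at
least the rank of the block. -/
theorem central_form (hM : IsPModular p M) {x : G} (hx : x ∈ Subgroup.center G) (hxo : orderOf x = p)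
    {b : Set (IrrCharacter G)} (hb : IsPBlock M b) (hd : blockDefect p b ≤ 2)
    (z : IrrCharacter G → ℤ) (hz : ∀ η, η ∉ b → z η = 0) {Q : ℤ}
    (hQ : (Q : ℂ) = (p : ℂ) ^ 2 * ∑ η, ∑ η', (z η : ℂ) * (z η' : ℂ) * bfPair p η η') :
    Q = 0 ∨ (blockRank p b : ℤ) ≤ Q := by
  set N := Subgroup.zpowers x with hNdef
  have hNc : N ≤ Subgroup.center G := Subgroup.zpowers_le.mpr hx
  haveI : N.Normal := CT.normal_of_central _ hNc
  haveI := Fintype.ofFinite (G ⧸ N)
  have hcard : Nat.card N = p := by rw [hNdef, Nat.card_zpowers, hxo]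
  have hN : IsPGroup p N := IsPGroup.of_card (n := 1) (by rw [hcard, pow_one])
  have hC : ∃ k : ℕ, (Subgroup.centralizer (N : Set G)).index = p ^ k := by
    refine ⟨0, ?_⟩
    rw [pow_zero, Subgroup.index_eq_one, Subgroup.centralizer_eq_top_iff_subset]
    exact hNc
  obtain ⟨χ₀, hχ₀⟩ := exists_trivial_on_pGroup (N := N) hM hN hb
  set b' := blockOf M (χ₀ : G ⧸ N → ℂ) with hb'def
  have hb' : IsPBlock M b' := isPBlock_blockOf χ₀
  have hsub : ∀ ψ ∈ b', inflIrr ψ ∈ b := fun ψ hψ =>
    (mem_block_iff hb hχ₀).mpr (sameBlock_inflIrr hψ)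
  have hmem : ∀ χ, inflIrr χ ∈ b → χ ∈ b' := fun χ hχ =>
    (mem_block_iff hb' (self_mem_blockOf χ₀)).mpr
      (sameBlock_of_inflIrr_of_pGroup hM hN hC ((mem_block_iff hb hχ₀).mp hχ))
  have hd' : blockDefect p b' ≤ 1 := by
    have : blockDefect p b' + 1 ≤ blockDefect p b :=
      blockDefect_inflation_lt (p := p) hp.out (by rw [hcard]) ⟨χ₀, self_mem_blockOf χ₀⟩ hsub
    omega
  rw [blockRank_inflation hM hN hC hb hb' hsub]
  have hex : ∀ η : IrrCharacter G, ∃ a : IrrCharacter (G ⧸ N) → ℤ, η ∈ b →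
      (∀ χ, inflIrr χ ∉ b → a χ = 0) ∧
      regFun p η = ∑ χ : IrrCharacter (G ⧸ N), (a χ : ℂ) • regFun p (inflIrr χ) := fun η =>
    if h : η ∈ b then (exists_int_lift hM hN hC hb h).imp fun a ha _ => ha
    else ⟨0, fun h' => absurd h' h⟩
  choose a ha using hex
  let n : IrrCharacter (G ⧸ N) → ℤ := fun χ => ∑ η, z η * a η χ
  have hn0 : ∀ χ, χ ∉ b' → n χ = 0 := fun χ hχ => Finset.sum_eq_zero fun η _ => by
    by_cases h : η ∈ b
    · rw [(ha η h).1 χ fun h' => hχ (hmem χ h'), mul_zero]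
    · rw [hz η h, zero_mul]
  set R : G → ℂ := ∑ η, (z η : ℂ) • regFun p η with hR
  have hR2 : R = ∑ χ, (n χ : ℂ) • regFun p (inflIrr χ) := by
    simp only [n, Int.cast_sum, Finset.sum_smul]
    rw [Finset.sum_comm, hR]
    refine Finset.sum_congr rfl fun η _ => ?_
    by_cases h : η ∈ b
    · rw [(ha η h).2, Finset.smul_sum]
      exact Finset.sum_congr rfl fun χ _ => by rw [Int.cast_mul, smul_smul]
    · simp [hz η h]
  have e1 : classInner R R = ∑ η, ∑ η', (z η : ℂ) * (z η' : ℂ) * bfPair p η η' := by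
    rw [hR, CT.classInner_sum_left]
    refine Finset.sum_congr rfl fun η _ => ?_
    rw [CT.classInner_smul_left, CT.classInner_sum_right, Finset.mul_sum]
    refine Finset.sum_congr rfl fun η' _ => ?_
    rw [CT.classInner_smul_right, classInner_regFun, map_intCast]
    ring
  have e2 : classInner R R =
      ∑ χ, ∑ ψ, (n χ : ℂ) * (n ψ : ℂ) * bfPair p (inflIrr χ) (inflIrr ψ) := by
    rw [hR2, CT.classInner_sum_left]
    refine Finset.sum_congr rfl fun χ _ => ?_
    rw [CT.classInner_smul_left, CT.classInner_sum_right, Finset.mul_sum]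
    refine Finset.sum_congr rfl fun ψ _ => ?_
    rw [CT.classInner_smul_right, classInner_regFun, map_intCast]
    ring
  have hQ' : (Q : ℂ) = (p : ℂ) * ∑ χ, ∑ ψ, (n χ : ℂ) * (n ψ : ℂ) * bfPair p χ ψ := by
    rw [hQ, ← e1, e2, Finset.mul_sum, Finset.mul_sum]
    refine Finset.sum_congr rfl fun χ _ => ?_
    rw [Finset.mul_sum, Finset.mul_sum]
    refine Finset.sum_congr rfl fun ψ _ => ?_
    rw [← bfPair_inflIrr hN hC χ ψ, hcard]
    ring
  rcases Nat.le_one_iff_eq_zero_or_eq_one.mp hd' with h0 | h1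
  · obtain ⟨D, hD⟩ := exists_defectGroup (p := p) hb'
    have hDb : D = ⊥ := Subgroup.eq_bot_of_card_eq _ (by
      rw [card_defectGroup hM hb' hD, h0, pow_zero])
    have hrank : blockRank p b' = 1 := blockRank_eq_one_of_agree (self_mem_blockOf χ₀) hp.out.ne_one
      fun χ hχ g hg => (central_block hM hb' hD (hDb ▸ bot_le)).2.1 χ hχ χ₀ (self_mem_blockOf χ₀) g hg
    rw [hrank]
    have hnn : 0 ≤ Q := by
      have h := hQ
      rw [← e1, CT.classInner_self] at h
      have h' := congrArg Complex.re h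
      norm_cast at h'
      have : (0 : ℝ) ≤ (Q : ℝ) := by
        rw [h']
        positivity
      exact_mod_cast this
    push_cast
    omega
  · exact one_form hM hb' h1 n hn0 hQ'

end Cfsg.Agent.DefectTwo
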