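import Cfsg.Agent.Lib.Blocks.DefectTwo.CentralLift
import Cfsg.Agent.Lib.Blocks.RankTwoCount
import Cfsg.Agent.Lib.Blocks.SubMatVal
import Cfsg.Agent.S4715

/-!
# The number of characters of a block

`k(B) ≤ p ^ d` for `d ≤ 2` and `k(B) ≤ p ^ (2d - 2)` for `d ≥ 3`.
-/

set_option linter.unusedSectionVars false

namespace Cfsg.Agent.DefectTwo

open Cfsg.Agent.Blocks Cfsg.Agent.BPairs
open scoped ComplexConjugate

universe u

section Local

variable {G : Type u} [Group G] [Fintype G] {p : ℕ} [hp : Fact p.Prime] {M : Ideal AlgInt} [M.IsPrime]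

open Classical in
/-- The diagonal contribution of a major subsection, with the centralizer named. -/
noncomputable def diag (p d : ℕ) {C : Subgroup G} [Fintype C] (b : Set (IrrCharacter C)) (v : C)
    (χ : IrrCharacter G) : ℂ :=
  ∑ η, ∑ η', (((if η ∈ b then CT.mult (fun h : C => (χ : G → ℂ) h) (η : C → ℂ) else 0 : ℕ) : ℂ) *
      ((η : C → ℂ) v / (η : C → ℂ) 1)) *
    conj (((if η' ∈ b then CT.mult (fun h : C => (χ : G → ℂ) h) (η' : C → ℂ) else 0 : ℕ) : ℂ) *
      ((η' : C → ℂ) v / (η' : C → ℂ) 1)) * ((p : ℂ) ^ d * bfPair p η η')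

open Classical in
theorem diag_facts (hM : IsPModular p M) {y : G} (C : Subgroup G) [Fintype C]
    (hC : Subgroup.centralizer ({y} : Set G) = C) (hyC : y ∈ C) (hy : ∃ k : ℕ, y ^ p ^ k = 1)
    {B : Set (IrrCharacter G)} {b : Set (IrrCharacter C)} (hind : IsInducedBlock M C b B) {d : ℕ}
    (hbd : blockDefect p b = d) (hBd : blockDefect p B = d) :
    (∀ χ ∈ B, 0 < (diag p d b (⟨y, hyC⟩ : C) χ).re) ∧
      ∑ χ ∈ Finset.univ.filter (fun χ : IrrCharacter G => χ ∈ B), diag p d b (⟨y, hyC⟩ : C) χ =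
        (p : ℂ) ^ d * (blockRank p b : ℂ) := by
  subst hC
  obtain ⟨hb, hB, -⟩ := id hind
  have he : ∀ χ, diag p d b (⟨y, hyC⟩ : Subgroup.centralizer ({y} : Set G)) χ = subMat p d b χ χ := by
    intro χ
    rw [subMat_eq]
    simp only [secC_eq_mB]
    rfl
  refine ⟨fun χ hχ => ?_, ?_⟩
  · rw [he]
    obtain ⟨ψ, hψ, h0⟩ := exists_height_zero (p := p) hB
    obtain ⟨a, -, ha, e⟩ := contrib_valuation hM hy hind (hbd.trans hBd.symm) hχ hψ h0
    rw [hbd] at e
    have hrow := congrArg Complex.re (sum_subMat_mul_row hM hy hb d χ χ)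
    rw [Complex.re_sum, ← Complex.ofReal_natCast, ← Complex.ofReal_pow, Complex.re_ofReal_mul] at hrow
    have hpos : 0 < ∑ φ : IrrCharacter G, (subMat p d b χ φ * subMat p d b φ χ).re := by
      refine Finset.sum_pos' (fun φ _ => ?_) ⟨ψ, Finset.mem_univ _, ?_⟩
      all_goals rw [← conj_subMat d χ _, Complex.mul_conj, Complex.ofReal_re]
      · exact Complex.normSq_nonneg _
      · refine Complex.normSq_pos.mpr ?_
        rw [e]
        exact mul_ne_zero (pow_ne_zero _ (Nat.cast_ne_zero.mpr hM.1.ne_zero)) ha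
    rw [hrow] at hpos
    exact pos_of_mul_pos_right hpos (pow_nonneg (Nat.cast_nonneg p) d)
  · rw [Finset.sum_congr rfl fun χ _ => he χ, Finset.sum_subset (Finset.subset_univ _) fun χ _ hχ =>
      subMat_eq_zero_left hM hy hind d (fun h => hχ (Finset.mem_filter.mpr ⟨Finset.mem_univ _, h⟩)) χ,
      trace_subMat hM hy hb d]

open Classical in
/-- A central element of order `p` with a major block of defect two bounds the block by `p²`. -/
theorem two_count (hM : IsPModular p M) {B : Set (IrrCharacter G)} (hd : blockDefect p B = 2)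
    {x : G} (hxo : orderOf x = p) (C : Subgroup G) [Fintype C]
    (hC : ∀ j : ZMod p, j ≠ 0 → Subgroup.centralizer ({x ^ j.val} : Set G) = C) (hxC : x ∈ C)
    {b : Set (IrrCharacter C)} (hind : IsInducedBlock M C b B) (hbd : blockDefect p b = 2) :
    Nat.card B ≤ p ^ 2 := by
  obtain ⟨hb, hB, -⟩ := id hind
  let xC : C := ⟨x, hxC⟩
  have hxcen : xC ∈ Subgroup.center C := Subgroup.mem_center_iff.mpr fun w => Subtype.ext (by
    have h1 : (w : G) ∈ Subgroup.centralizer ({x ^ (1 : ZMod p).val} : Set G) := by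
      rw [hC 1 one_ne_zero]; exact w.2
    rw [ZMod.val_one, pow_one] at h1
    exact Subgroup.mem_centralizer_singleton_iff.mp h1)
  have hxCo : orderOf xC = p := by rw [← hxo]; exact Subgroup.orderOf_mk x hxC
  choose ex hex using fun η : IrrCharacter C =>
    SmallCent.exists_exp (p := p) hxcen (hxCo ▸ pow_orderOf_eq_one xC) η
  obtain ⟨X, hXs, hX⟩ := exists_bf_matrix hM hb
  rw [hbd] at hX
  let m : IrrCharacter G → IrrCharacter C → ℕ := fun χ η =>
    if η ∈ b then CT.mult (fun h : C => (χ : G → ℂ) h) (η : C → ℂ) else 0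
  let z : IrrCharacter G → ZMod p → IrrCharacter C → ℤ := fun χ i η =>
    if ex η = i then (m χ η : ℤ) else 0
  let q : (IrrCharacter C → ℤ) → (IrrCharacter C → ℤ) → ℤ := fun v w =>
    ∑ η, ∑ η', v η * w η' * (if η ∈ b then X η η' else 0)
  have hq : ∀ v w : IrrCharacter C → ℤ, (∀ η, η ∉ b → v η = 0) →
      (q v w : ℂ) = (p : ℂ) ^ 2 * ∑ η, ∑ η', (v η : ℂ) * (w η' : ℂ) * bfPair p η η' := by
    intro v w hv
    simp only [q, Int.cast_sum, Finset.mul_sum]
    refine Finset.sum_congr rfl fun η _ => Finset.sum_congr rfl fun η' _ => ?_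
    by_cases h : η ∈ b
    · rw [if_pos h, Int.cast_mul, Int.cast_mul, ← hX η h η']; ring
    · simp [hv η h]
  let S : IrrCharacter G → ℤ := fun χ => ∑ η, ∑ η', (m χ η : ℤ) * (m χ η' : ℤ) *
    (if η ∈ b then X η η' else 0) * ((if ex η = ex η' then (p : ℤ) else 0) - 1)
  have hxp : x ^ p = 1 := hxo ▸ pow_orderOf_eq_one x
  have hpw : ∀ j : ZMod p, ∃ k : ℕ, (x ^ j.val) ^ p ^ k = 1 := fun j => ⟨1, by
    rw [pow_one, ← pow_mul, mul_comm, pow_mul, hxp, one_pow]⟩
  -- the sum over the powers
  have hS : ∀ χ, (S χ : ℂ) = ∑ j ∈ Finset.univ.erase (0 : ZMod p), diag p 2 b (xC ^ j.val) χ := by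
    intro χ
    simp only [diag, S, Int.cast_sum]
    rw [Finset.sum_comm (s := Finset.univ.erase (0 : ZMod p))]
    refine Finset.sum_congr rfl fun η _ => ?_
    rw [Finset.sum_comm (s := Finset.univ.erase (0 : ZMod p))]
    refine Finset.sum_congr rfl fun η' _ => ?_
    have hw : ∀ (θ : IrrCharacter C) (j : ZMod p),
        (θ : C → ℂ) (xC ^ j.val) / (θ : C → ℂ) 1 = D1.psi (j * ex θ) := fun θ j => by
      have h := hex θ j 1
      rw [mul_one] at h
      rw [h, mul_div_cancel_right₀ _ (CT.irr_one_ne_zero θ.2)]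
      rfl
    by_cases h : η ∈ b
    swap
    · simp [m, h]
    rw [if_pos h, Finset.sum_congr rfl fun j _ => show
        (((m χ η : ℕ) : ℂ) * ((η : C → ℂ) (xC ^ j.val) / (η : C → ℂ) 1)) *
          conj (((m χ η' : ℕ) : ℂ) * ((η' : C → ℂ) (xC ^ j.val) / (η' : C → ℂ) 1)) *
          ((p : ℂ) ^ 2 * bfPair p η η') =
        (m χ η : ℂ) * (m χ η' : ℂ) * (X η η' : ℂ) * D1.psi ((ex η - ex η') * j) by
      rw [hw, hw, map_mul, map_natCast, show conj (D1.psi (j * ex η')) = D1.psi (-(j * ex η')) from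
        SmallCent.conj_psi _, hX η h η', show (ex η - ex η') * j = j * ex η + -(j * ex η') by ring,
        D1.psi_add]
      ring, ← Finset.mul_sum]
    have hsum := D1.sum_psi_mul (ex η - ex η')
    rw [← Finset.add_sum_erase _ _ (Finset.mem_univ (0 : ZMod p)), mul_zero, D1.psi_zero] at hsum
    rw [show ∑ j ∈ Finset.univ.erase (0 : ZMod p), D1.psi ((ex η - ex η') * j) =
      (if ex η - ex η' = 0 then (p : ℂ) else 0) - 1 by rw [← hsum]; ring]
    simp only [sub_eq_zero]
    push_cast
    ring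
  have hfacts := fun j : {j : ZMod p // j ≠ 0} => diag_facts hM C (hC j j.2) (pow_mem hxC _)
    (hpw j) hind hbd hd
  have hxk : ∀ j : ZMod p, (⟨x ^ j.val, pow_mem hxC _⟩ : C) = xC ^ j.val := fun j =>
    Subtype.ext (by simp [xC])
  have hpos : ∀ χ ∈ B, 0 < S χ := by
    intro χ hχ
    have h := congrArg Complex.re (hS χ)
    rw [Complex.intCast_re, Complex.re_sum] at h
    have : (0 : ℝ) < (S χ : ℝ) := by
      rw [h]
      refine Finset.sum_pos (fun j hj => ?_) ⟨1, Finset.mem_erase.mpr ⟨one_ne_zero, Finset.mem_univ _⟩⟩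
      rw [← hxk]
      exact (hfacts ⟨j, Finset.ne_of_mem_erase hj⟩).1 χ hχ
    exact_mod_cast this
  have htr : ∑ χ ∈ Finset.univ.filter (fun χ : IrrCharacter G => χ ∈ B), S χ =
      ((p : ℤ) - 1) * ((p : ℤ) ^ 2 * (blockRank p b : ℤ)) := by
    apply Int.cast_injective (α := ℂ)
    rw [Int.cast_sum, Finset.sum_congr rfl fun χ _ => hS χ, Finset.sum_comm,
      Finset.sum_congr rfl fun j hj => show _ = (p : ℂ) ^ 2 * (blockRank p b : ℂ) by
        rw [← hxk]
        exact (hfacts ⟨j, Finset.ne_of_mem_erase hj⟩).2,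
      Finset.sum_const, Finset.card_erase_of_mem (Finset.mem_univ _), Finset.card_univ, ZMod.card,
      nsmul_eq_mul, Nat.cast_sub hp.out.one_le]
    push_cast
    ring
  -- each term is large
  let R : (IrrCharacter C → ℤ) → C → ℂ := fun v => ∑ η, (v η : ℂ) • regFun p η
  have hRR : ∀ v : IrrCharacter C → ℤ, (∀ η, η ∉ b → v η = 0) →
      (q v v : ℂ) = (p : ℂ) ^ 2 * classInner (R v) (R v) := by
    intro v hv
    rw [hq v v hv]
    congr 1
    simp only [R]
    rw [CT.classInner_sum_left]
    refine Finset.sum_congr rfl fun η _ => ?_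
    rw [CT.classInner_smul_left, CT.classInner_sum_right, Finset.mul_sum]
    refine Finset.sum_congr rfl fun η' _ => ?_
    rw [CT.classInner_smul_right, classInner_regFun, map_intCast]
    ring
  have hlow : ∀ χ ∈ B, ((p : ℤ) - 1) * (blockRank p b : ℤ) ≤ S χ := by
    intro χ hχ
    set l : ℤ := (blockRank p b : ℤ) with hl
    let Φ : ZMod p → ZMod p → ℤ := fun i j => q (z χ i - z χ j) (z χ i - z χ j)
    have hz0 : ∀ i j η, η ∉ b → (z χ i - z χ j) η = 0 := fun i j η h => by
      simp [z, m, h]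
    have hcases : ∀ i j, Φ i j = 0 ∨ l ≤ Φ i j := fun i j =>
      central_form hM hxcen hxCo hb hbd.le _ (hz0 i j) (hq _ _ (hz0 i j))
    have h2S : ∑ i, ∑ j, Φ i j = 2 * S χ := by
      have e : ∀ η η', ∑ i, ∑ j, (z χ i η - z χ j η) * (z χ i η' - z χ j η') =
          2 * ((m χ η : ℤ) * (m χ η' : ℤ) * ((if ex η = ex η' then (p : ℤ) else 0) - 1)) := by
        intro η η'
        have e1 : ∀ θ, ∑ i, z χ i θ = (m χ θ : ℤ) := fun θ => by simp [z]
        have e2 : ∑ i, z χ i η * z χ i η' =
            (m χ η : ℤ) * (m χ η' : ℤ) * (if ex η = ex η' then 1 else 0) := by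
          simp only [z, ite_mul, zero_mul, Finset.sum_ite_eq, Finset.mem_univ, if_true]
          by_cases h : ex η = ex η'
          · simp [h]
          · simp [h, Ne.symm h]
        rw [Finset.sum_congr rfl fun i _ => Finset.sum_congr rfl fun j _ => show
          (z χ i η - z χ j η) * (z χ i η' - z χ j η') = z χ i η * z χ i η' + z χ j η * z χ j η' -
            z χ i η * z χ j η' - z χ j η * z χ i η' by ring]
        simp only [Finset.sum_sub_distrib, Finset.sum_add_distrib, Finset.sum_const, Finset.card_univ,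
          ZMod.card, nsmul_eq_mul, ← Finset.mul_sum, ← Finset.sum_mul, e1, e2]
        split_ifs <;> ring
      simp only [Φ, q, Pi.sub_apply]
      rw [Finset.sum_congr rfl fun i _ => Finset.sum_comm, Finset.sum_comm, Finset.mul_sum]
      refine Finset.sum_congr rfl fun η _ => ?_
      rw [Finset.sum_congr rfl fun i _ => Finset.sum_comm, Finset.sum_comm, Finset.mul_sum]
      refine Finset.sum_congr rfl fun η' _ => ?_
      rw [Finset.sum_congr rfl fun i _ => (Finset.sum_mul _ _ _).symm, ← Finset.sum_mul, e]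
      ring
    have hnn : ∀ i j, 0 ≤ Φ i j := fun i j => by
      rcases hcases i j with h | h
      · exact h.ge
      · exact le_trans (Int.natCast_nonneg _) h
    obtain ⟨i₀, i₁, hne⟩ : ∃ i₀ i₁, Φ i₀ i₁ ≠ 0 := by
      by_contra hcon
      push Not at hcon
      have : (2 : ℤ) * S χ = 0 := by
        rw [← h2S]
        exact Finset.sum_eq_zero fun i _ => Finset.sum_eq_zero fun j _ => hcon i j
      linarith [hpos χ hχ]
    have hlΦ : ∀ i j, Φ i j ≠ 0 → l ≤ Φ i j := fun i j h => (hcases i j).resolve_left h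
    have hR0 : ∀ i j, Φ i j = 0 → R (z χ i) = R (z χ j) := fun i j h => by
      have h' := hRR _ (hz0 i j)
      rw [show q (z χ i - z χ j) (z χ i - z χ j) = Φ i j from rfl, h, Int.cast_zero] at h'
      have h2 := CT.classInner_self_eq_zero
        ((mul_eq_zero.mp h'.symm).resolve_left (pow_ne_zero _ (Nat.cast_ne_zero.mpr hp.out.ne_zero)))
      simp only [R, Pi.sub_apply, Int.cast_sub, sub_smul, Finset.sum_sub_distrib, sub_eq_zero] at h2
      exact h2
    have hsym : ∀ i j, Φ i j = Φ j i := fun i j => by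
      simp only [Φ, q, Pi.sub_apply]
      exact Finset.sum_congr rfl fun η _ => Finset.sum_congr rfl fun η' _ => by ring
    have htwo : ∀ k, l ≤ Φ k i₀ + Φ k i₁ := by
      intro k
      by_cases h0 : Φ k i₀ = 0
      · by_cases h1 : Φ k i₁ = 0
        · exfalso
          apply hne
          have e0 := hR0 _ _ h0
          have e1 := hR0 _ _ h1
          have h' := hRR _ (hz0 i₀ i₁)
          have hz : R (z χ i₀ - z χ i₁) = 0 := by
            simp only [R, Pi.sub_apply, Int.cast_sub, sub_smul, Finset.sum_sub_distrib]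
            exact sub_eq_zero.mpr (e0.symm.trans e1)
          rw [hz] at h'
          simp only [classInner, Pi.zero_apply, zero_mul, Finset.sum_const_zero, mul_zero] at h'
          exact_mod_cast h'
        · linarith [hlΦ _ _ h1, hnn k i₀]
      · linarith [hlΦ _ _ h0, hnn k i₁]
    have hrow : ∀ k, l ≤ ∑ j, Φ k j := fun k => by
      have hii : i₀ ≠ i₁ := fun h => hne (by
        rw [h]; simp [Φ, q])
      refine (htwo k).trans ?_
      rw [← Finset.sum_pair hii (f := fun j => Φ k j)]
      exact Finset.sum_le_sum_of_subset_of_nonneg (Finset.subset_univ _) fun j _ _ => hnn k j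
    have hii : i₀ ≠ i₁ := fun h => hne (by rw [h]; simp [Φ, q])
    have h01 : (p : ℤ) * l ≤ ∑ j, Φ i₀ j + ∑ j, Φ i₁ j := by
      rw [← Finset.sum_add_distrib]
      refine le_trans (le_of_eq ?_) (Finset.card_nsmul_le_sum _ _ l fun k _ => ?_)
      · simp
      · rw [hsym i₀ k, hsym i₁ k]
        exact htwo k
    have htot : (2 * (p : ℤ) - 2) * l ≤ ∑ i, ∑ j, Φ i j := by
      rw [← Finset.sum_sdiff (Finset.subset_univ ({i₀, i₁} : Finset (ZMod p))), Finset.sum_pair hii]
      have h2 := Finset.card_nsmul_le_sum (Finset.univ \ ({i₀, i₁} : Finset (ZMod p)))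
        (fun i => ∑ j, Φ i j) l fun k _ => hrow k
      rw [Finset.card_sdiff_of_subset (Finset.subset_univ _), Finset.card_univ, ZMod.card,
        Finset.card_pair hii, nsmul_eq_mul, Nat.cast_sub hp.out.two_le] at h2
      push_cast at h2
      linarith
    rw [h2S] at htot
    linarith
  have hkey : ((Finset.univ.filter fun χ : IrrCharacter G => χ ∈ B).card : ℤ) *
      (((p : ℤ) - 1) * (blockRank p b : ℤ)) ≤ ((p : ℤ) - 1) * ((p : ℤ) ^ 2 * (blockRank p b : ℤ)) := by
    rw [← htr]
    refine le_trans (le_of_eq ?_) (Finset.card_nsmul_le_sum _ _ _ fun χ hχ =>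
      hlow χ (Finset.mem_filter.mp hχ).2)
    simp
  have hl0 : (0 : ℤ) < ((p : ℤ) - 1) * (blockRank p b : ℤ) := by
    obtain ⟨χ, hχ⟩ := block_nonempty hB
    have h1 : 0 < ((p : ℤ) - 1) * ((p : ℤ) ^ 2 * (blockRank p b : ℤ)) := by
      rw [← htr]
      exact Finset.sum_pos (fun φ hφ => hpos φ (Finset.mem_filter.mp hφ).2)
        ⟨χ, Finset.mem_filter.mpr ⟨Finset.mem_univ _, hχ⟩⟩
    rw [mul_left_comm] at h1
    exact pos_of_mul_pos_right h1 (sq_nonneg _)
  rw [Nat.card_eq_fintype_card, Fintype.card_subtype]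
  have : ((Finset.univ.filter fun χ : IrrCharacter G => χ ∈ B).card : ℤ) ≤ (p : ℤ) ^ 2 := by
    refine le_of_mul_le_mul_right ?_ hl0
    linarith
  exact_mod_cast this

open Classical in
/-- When all heights are zero a major subsection bounds the square of the number of characters. -/
theorem sq_card_le (hM : IsPModular p M) {y : G} [Fintype (Subgroup.centralizer ({y} : Set G))]
    (hy : ∃ k : ℕ, y ^ p ^ k = 1) {B : Set (IrrCharacter G)}
    {b : Set (IrrCharacter (Subgroup.centralizer ({y} : Set G)))}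
    (hind : IsInducedBlock M (Subgroup.centralizer ({y} : Set G)) b B)
    (hd : blockDefect p b = blockDefect p B)
    (hall : ∀ χ ∈ B, blockHeight p B (χ : G → ℂ) = 0) :
    Nat.card B ^ 2 ≤ p ^ (2 * blockDefect p B) * blockRank p b := by
  obtain ⟨hb, hB, -⟩ := id hind
  obtain ⟨X, hXs, hX⟩ := exists_bf_matrix hM hb
  set d := blockDefect p b with hdd
  haveI : NeZero (Nat.card G) := ⟨Nat.card_pos.ne'⟩
  obtain ⟨K, hfin, hgal, hroot⟩ := exists_root_field (Nat.card G)
  have hom : ∀ η : IrrCharacter (Subgroup.centralizer ({y} : Set G)), omC η ^ Nat.card G = 1 := fun η =>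
    (omC_spec η).2 _ (Subtype.ext (by simp [selfC]))
  have hinv : ∀ w : ℂ, w ^ Nat.card G = 1 → w⁻¹ = conj w := fun w hw =>
    Complex.inv_eq_conj (Complex.norm_eq_one_of_pow_eq_one hw Nat.card_pos.ne')
  let z : IrrCharacter (Subgroup.centralizer ({y} : Set G)) → K := fun η => ⟨omC η, hroot _ (hom η)⟩
  let n : IrrCharacter G → IrrCharacter G → IrrCharacter (Subgroup.centralizer ({y} : Set G)) →
      IrrCharacter (Subgroup.centralizer ({y} : Set G)) → ℤ :=
    fun χ ψ η η' => (mB b χ η : ℤ) * mB b ψ η' * X η η'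
  let A : IrrCharacter G → IrrCharacter G → K := fun χ ψ =>
    ∑ η, ∑ η', (n χ ψ η η' : K) * (z η * (z η')⁻¹)
  have hA : ∀ χ ψ, (A χ ψ : ℂ) = subMat p d b χ ψ := by
    intro χ ψ
    simp only [A, subMat_eq, AddSubmonoidClass.coe_finsetSum]
    refine Finset.sum_congr rfl fun η _ => Finset.sum_congr rfl fun η' _ => ?_
    rw [secC_eq_mB, secC_eq_mB, map_mul, map_natCast, ← hinv _ (hom η')]
    by_cases hη : η ∈ b
    · rw [hX η hη η']
      simp only [n, z]
      push_cast
      ring
    · simp [n, mB, hη]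
  have hherm : ∀ (σ : Gal(K/ℚ)) χ ψ,
      conj ((σ (A χ ψ) : K) : ℂ) = ((σ (A ψ χ) : K) : ℂ) := by
    intro σ χ ψ
    simp only [A, map_sum, map_mul, map_intCast, map_inv₀, AddSubmonoidClass.coe_finsetSum]
    push_cast
    simp only [map_sum, map_mul, map_intCast, map_inv₀]
    rw [Finset.sum_comm]
    refine Finset.sum_congr rfl fun η' _ => Finset.sum_congr rfl fun η _ => ?_
    have hr : ∀ e, ((σ (z e) : K) : ℂ) ^ Nat.card G = 1 := fun e => by
      rw [← SubmonoidClass.coe_pow, ← map_pow,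
        show z e ^ Nat.card G = 1 from Subtype.ext (by simpa [z] using hom e), map_one]; rfl
    rw [← hinv _ (hr η), ← hinv _ (hr η'), inv_inv,
      show n χ ψ η η' = n ψ χ η' η by simp only [n, hXs η η']; ring]
    ring
  obtain ⟨ψ₀, hψ₀, h0⟩ := exists_height_zero (p := p) hB
  set s := Finset.univ.filter (fun χ : IrrCharacter G => χ ∈ B)
  have hlow : ∀ χ ∈ s, ∀ ψ ∈ s, (Fintype.card Gal(K/ℚ) : ℝ) ≤
      ∑ σ : Gal(K/ℚ), Complex.normSq ((σ (A χ ψ) : K) : ℂ) := by
    intro χ hχ ψ hψ
    obtain ⟨a, hai, ha0, e⟩ := contrib_valuation hM hy hind hd (Finset.mem_filter.mp hχ).2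
      (Finset.mem_filter.mp hψ).2 (hall ψ (Finset.mem_filter.mp hψ).2)
    rw [hall χ (Finset.mem_filter.mp hχ).2, pow_zero, one_mul, ← hA] at e
    exact card_le_sum_gal (A χ ψ) (e ▸ ha0) (e ▸ hai)
  have hK : ∑ χ : IrrCharacter G, ∑ ψ : IrrCharacter G, A χ ψ * A ψ χ =
      ((p ^ (2 * d) * blockRank p b : ℕ) : K) := by
    apply Subtype.ext
    simp only [AddSubmonoidClass.coe_finsetSum]
    push_cast
    simp only [hA]
    exact sum_subMat_mul hM hy hb d
  have hσ : ∀ σ : Gal(K/ℚ), ∑ χ ∈ s, ∑ ψ ∈ s, Complex.normSq ((σ (A χ ψ) : K) : ℂ) ≤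
      ((p ^ (2 * d) * blockRank p b : ℕ) : ℝ) := by
    intro σ
    have h := congrArg (fun w : K => ((σ w : K) : ℂ).re) hK
    simp only [map_sum, map_mul, map_natCast, AddSubmonoidClass.coe_finsetSum, Complex.re_sum] at h
    have e : ∀ χ ψ, (((σ (A χ ψ) * σ (A ψ χ) : K)) : ℂ).re = Complex.normSq ((σ (A χ ψ) : K) : ℂ) := by
      intro χ ψ
      push_cast
      rw [← hherm σ χ ψ, Complex.mul_conj, Complex.ofReal_re]
    simp only [e] at h
    push_cast at h ⊢
    refine le_trans ?_ (le_of_eq (h.trans (by norm_cast)))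
    refine le_trans (Finset.sum_le_sum fun χ _ => Finset.sum_le_sum_of_subset_of_nonneg
      (Finset.subset_univ s) fun _ _ _ => Complex.normSq_nonneg _) ?_
    exact Finset.sum_le_sum_of_subset_of_nonneg (Finset.subset_univ s)
      fun _ _ _ => Finset.sum_nonneg fun _ _ => Complex.normSq_nonneg _
  have h1 : ((s.card : ℝ) ^ 2) * (Fintype.card Gal(K/ℚ) : ℝ) ≤
      (Fintype.card Gal(K/ℚ) : ℝ) * ((p ^ (2 * d) * blockRank p b : ℕ) : ℝ) := by
    calc ((s.card : ℝ) ^ 2) * (Fintype.card Gal(K/ℚ) : ℝ)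
        = ∑ _χ ∈ s, ∑ _ψ ∈ s, (Fintype.card Gal(K/ℚ) : ℝ) := by simp; ring
      _ ≤ ∑ χ ∈ s, ∑ ψ ∈ s, ∑ σ : Gal(K/ℚ), Complex.normSq ((σ (A χ ψ) : K) : ℂ) :=
          Finset.sum_le_sum fun χ hχ => Finset.sum_le_sum fun ψ hψ => hlow χ hχ ψ hψ
      _ = ∑ σ : Gal(K/ℚ), ∑ χ ∈ s, ∑ ψ ∈ s, Complex.normSq ((σ (A χ ψ) : K) : ℂ) := by
          rw [Finset.sum_congr rfl fun χ _ => Finset.sum_comm, Finset.sum_comm]
      _ ≤ ∑ _σ : Gal(K/ℚ), ((p ^ (2 * d) * blockRank p b : ℕ) : ℝ) :=
          Finset.sum_le_sum fun σ _ => hσ σ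
      _ = _ := by simp
  have hN : (0 : ℝ) < Fintype.card Gal(K/ℚ) := by exact_mod_cast Fintype.card_pos
  rw [Nat.card_eq_fintype_card, Fintype.card_subtype, ← hd]
  have h2 : (s.card : ℝ) ^ 2 ≤ ((p ^ (2 * d) * blockRank p b : ℕ) : ℝ) := by
    rw [mul_comm] at h1
    exact le_of_mul_le_mul_left h1 hN
  exact_mod_cast h2

theorem sq_card_le' (hM : IsPModular p M) {y : G} (C : Subgroup G)
    (hC : Subgroup.centralizer ({y} : Set G) = C) (hy : ∃ k : ℕ, y ^ p ^ k = 1)
    {B : Set (IrrCharacter G)} {b : Set (IrrCharacter C)} (hind : IsInducedBlock M C b B)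
    (hd : blockDefect p b = blockDefect p B)
    (hall : ∀ χ ∈ B, blockHeight p B (χ : G → ℂ) = 0) :
    Nat.card B ^ 2 ≤ p ^ (2 * blockDefect p B) * blockRank p b := by
  subst hC
  letI := Fintype.ofFinite (Subgroup.centralizer ({y} : Set G))
  exact sq_card_le hM hy hind hd hall

theorem card_le_rank' (hM : IsPModular p M) {y : G} (C : Subgroup G)
    (hC : Subgroup.centralizer ({y} : Set G) = C) (hy : ∃ k : ℕ, y ^ p ^ k = 1)
    {B : Set (IrrCharacter G)} {b : Set (IrrCharacter C)} (hind : IsInducedBlock M C b B)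
    (hd : blockDefect p b = blockDefect p B) (hl : blockRank p b ≤ 2) :
    Nat.card B ≤ p ^ blockDefect p B := by
  subst hC
  letI := Fintype.ofFinite (Subgroup.centralizer ({y} : Set G))
  exact card_le_of_rank_le_two hM hy hind hd hl

/-- The rank of a block is at most the number of its characters. -/
theorem blockRank_le_natCard {H : Type u} [Group H] [Finite H] (b : Set (IrrCharacter H)) :
    blockRank p b ≤ Nat.card b := by
  classical
  haveI := Fintype.ofFinite H
  haveI : Fintype b := Fintype.ofFinite b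
  rw [blockRank, Set.image_eq_range, Nat.card_eq_fintype_card]
  exact finrank_range_le_card (R := ℂ) _

end Local

open Classical in
/-- The bounds on the number of characters of a block. -/
theorem block_bound {p : ℕ} [hp : Fact p.Prime] {M : Ideal AlgInt} [M.IsPrime] (hM : IsPModular p M) :
    ∀ (d : ℕ) (G : Type u) [Group G] [Fintype G] (B : Set (IrrCharacter G)), IsPBlock M B →
      blockDefect p B = d →
      (d ≤ 2 → Nat.card B ≤ p ^ d) ∧ (3 ≤ d → Nat.card B ≤ p ^ (2 * d - 2)) := by
  intro d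
  induction d using Nat.strong_induction_on with
  | _ d ih =>
    intro G _ _ B hB hd
    rcases Nat.eq_zero_or_pos d with h0 | hd1
    · refine ⟨fun _ => ?_, fun h => absurd h (by omega)⟩
      have h := brauer_feit hM hB
      rw [hd, h0, mul_zero, pow_zero] at h
      rw [h0, pow_zero]
      omega
    obtain ⟨D, e, hmax⟩ := exists_maximal_of_block hM hB
    have hDG := isDefectGroup_of_maximal hM hmax
    have hDc : Nat.card D = p ^ d := by rw [card_defectGroup hM hB hDG, hd]
    have hDp : IsPGroup p D := IsPGroup.of_card hDc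
    haveI : Nontrivial D := by
      rw [← Finite.one_lt_card_iff_nontrivial, hDc]
      exact Nat.one_lt_pow (by omega) hp.out.one_lt
    haveI := hDp.center_nontrivial
    obtain ⟨x0, hx0⟩ := exists_prime_orderOf_dvd_card' (G := Subgroup.center D) p (by
      obtain ⟨k, hk⟩ := IsPGroup.iff_card.mp (hDp.to_subgroup (Subgroup.center D))
      rcases Nat.eq_zero_or_pos k with rfl | h
      · rw [pow_zero] at hk
        exact absurd hk Finite.one_lt_card.ne'
      · exact hk ▸ dvd_pow_self p h.ne')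
    obtain ⟨x, hxdef⟩ : ∃ x : G, x = ((x0 : D) : G) := ⟨_, rfl⟩
    have hxD : x ∈ D := hxdef ▸ (x0 : D).2
    have hxz : ∀ w ∈ D, w * x = x * w := fun w hw => hxdef ▸
      congrArg Subtype.val (Subgroup.mem_center_iff.mp x0.2 ⟨w, hw⟩)
    have hxo : orderOf x = p := by rw [hxdef, Subgroup.orderOf_coe, Subgroup.orderOf_coe, hx0]
    obtain ⟨f, hf, hle, hpair, hDz, hfdg⟩ := S4715.exists_major hM hmax hxD hxz
    haveI := Fintype.ofFinite (cz x)
    have hind : IsInducedBlock M (cz x) f B := isInducedBlock_of_brauerPair hM hpair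
    have hfd : blockDefect p f = blockDefect p B := Nat.pow_right_injective hp.out.two_le (by
      dsimp only
      rw [← card_defectGroup hM hf hfdg, ← card_defectGroup hM hB hDG]
      exact Nat.card_congr (Subgroup.subgroupOfEquivOfLe hDz).toEquiv)
    have hxp : x ^ p = 1 := hxo ▸ pow_orderOf_eq_one x
    have hC : Subgroup.centralizer ({x} : Set G) = cz x := (centralizer_zpowers_eq x).symm
    have hy : ∃ k : ℕ, x ^ p ^ k = 1 := ⟨1, by rw [pow_one, hxp]⟩
    refine ⟨fun h2 => ?_, fun h3 => ?_⟩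
    · rcases (show d = 1 ∨ d = 2 by omega) with h | h
      · -- defect one: the defect group is central in the centralizer
        have hDx : D = Subgroup.zpowers x :=
          (Subgroup.eq_of_le_of_card_ge (Subgroup.zpowers_le.mpr hxD)
            (by rw [hDc, h, pow_one, Nat.card_zpowers, hxo])).symm
        have hcen : D.subgroupOf (cz x) ≤ Subgroup.center (cz x) := by
          intro c hc
          refine Subgroup.mem_center_iff.mpr fun w => Subtype.ext ?_
          have h1 : (c : G) ∈ Subgroup.zpowers x := hDx ▸ Subgroup.mem_subgroupOf.mp hc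
          exact (Subgroup.mem_centralizer_iff.mp w.2 _ h1).symm
        obtain ⟨-, hagree, -⟩ := central_block hM hf hfdg hcen
        obtain ⟨η, hη⟩ := block_nonempty hf
        have hr : blockRank p f = 1 := blockRank_eq_one_of_agree hη hp.out.ne_one
          fun χ hχ g hg => hagree χ hχ η hη g hg
        have hb := card_le_rank' hM (cz x) hC hy hind hfd (by omega)
        rwa [hd] at hb
      · have hCj : ∀ j : ZMod p, j ≠ 0 → Subgroup.centralizer ({x ^ j.val} : Set G) = cz x := by
          intro j hj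
          rw [← centralizer_zpowers_eq]
          show _ = Subgroup.centralizer _
          congr 2
          refine Subgroup.eq_of_le_of_card_ge
            (Subgroup.zpowers_le.mpr (pow_mem (Subgroup.mem_zpowers x) _)) ?_
          have hcop : (orderOf x).Coprime j.val := by
            rw [hxo]
            exact hp.out.coprime_iff_not_dvd.mpr fun hdv => hj (by
              rw [← ZMod.natCast_zmod_val j, ZMod.natCast_eq_zero_iff]; exact hdv)
          rw [Nat.card_zpowers, Nat.card_zpowers, Nat.Coprime.orderOf_pow hcop]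
        rw [h]
        exact two_count hM (hd.trans h) hxo (cz x) hCj (mem_cz_self x) hind (hfd.trans (hd.trans h))
    · by_cases hex : ∃ χ ∈ B, 0 < blockHeight p B (χ : G → ℂ)
      · obtain ⟨χ, hχ, hpos⟩ := hex
        obtain ⟨-, h0⟩ := height_bound hM hB hχ hpos
        have hsum := sum_height_sq_le (p := p) hM hB
        rw [hd] at h0 hsum
        set S0 := ((Finset.univ : Finset (IrrCharacter G)).filter (· ∈ B)).filter
          (fun ψ : IrrCharacter G => blockHeight p B (ψ : G → ℂ) = 0) with hS0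
        set S1 := ((Finset.univ : Finset (IrrCharacter G)).filter (· ∈ B)).filter
          (fun ψ : IrrCharacter G => ¬ blockHeight p B (ψ : G → ℂ) = 0) with hS1
        have hk : Nat.card B = S0.card + S1.card := by
          rw [Nat.card_eq_fintype_card, Fintype.card_subtype,
            hS0, hS1, Finset.card_filter_add_card_filter_not]
        have h1 : S0.card + p ^ 2 * S1.card ≤
            ∑ ψ ∈ (Finset.univ : Finset (IrrCharacter G)).filter (· ∈ B),
              p ^ (2 * blockHeight p B (ψ : G → ℂ)) := by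
          rw [← Finset.sum_filter_add_sum_filter_not _
            (fun ψ : IrrCharacter G => blockHeight p B (ψ : G → ℂ) = 0)]
          refine add_le_add (le_trans (le_of_eq ?_) (Finset.card_nsmul_le_sum _ _ 1 fun ψ _ =>
            Nat.one_le_pow _ _ hp.out.pos)) (le_trans (le_of_eq ?_)
            (Finset.card_nsmul_le_sum _ _ (p ^ 2) fun ψ hψ => Nat.pow_le_pow_right hp.out.pos ?_))
          · simp [hS0]
          · simp [hS1, mul_comm]
          · have := (Finset.mem_filter.mp hψ).2
            omega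
        have h0' : 4 * S0.card * p ^ 2 ≤ p ^ (2 * d) :=
          le_trans (Nat.mul_le_mul_left _ (Nat.pow_le_pow_right hp.out.pos (by omega))) h0
        have hbig : p ^ 2 ≤ p ^ (2 * d) := Nat.pow_le_pow_right hp.out.pos (by omega)
        have h4 : 4 ≤ p ^ 2 := by
          calc 4 = 2 ^ 2 := rfl
            _ ≤ p ^ 2 := Nat.pow_le_pow_left hp.out.two_le 2
        have e : p ^ (2 * d) = p ^ 2 * p ^ (2 * d - 2) := by
          rw [← pow_add]; congr 1; omega
        rw [hk]
        refine Nat.le_of_mul_le_mul_left ?_ (pow_pos hp.out.pos 2)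
        rw [← e]
        nlinarith
      · push Not at hex
        have hall : ∀ χ ∈ B, blockHeight p B (χ : G → ℂ) = 0 := fun χ hχ =>
          Nat.le_zero.mp (hex χ hχ)
        have hb := sq_card_le' hM (cz x) hC hy hind hfd hall
        -- the rank through the quotient
        let xC : cz x := ⟨x, mem_cz_self x⟩
        have hNc : Subgroup.zpowers xC ≤ Subgroup.center (cz x) := Subgroup.zpowers_le.mpr
          (Subgroup.mem_center_iff.mpr fun w => Subtype.ext (mem_cz.mp w.2).eq)
        haveI : (Subgroup.zpowers xC).Normal := CT.normal_of_central _ hNc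
        haveI := Fintype.ofFinite (cz x ⧸ Subgroup.zpowers xC)
        have hNcard : Nat.card (Subgroup.zpowers xC) = p := by
          rw [Nat.card_zpowers, Subgroup.orderOf_mk, hxo]
        have hN : IsPGroup p (Subgroup.zpowers xC) := IsPGroup.of_card (n := 1) (by rw [hNcard, pow_one])
        have hNC : ∃ k : ℕ, (Subgroup.centralizer
            ((Subgroup.zpowers xC : Subgroup (cz x)) : Set (cz x))).index = p ^ k := by
          refine ⟨0, ?_⟩
          rw [pow_zero, Subgroup.index_eq_one, Subgroup.centralizer_eq_top_iff_subset]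
          exact hNc
        obtain ⟨χ₀, hχ₀⟩ := exists_trivial_on_pGroup (N := Subgroup.zpowers xC) hM hN hf
        have hb' : IsPBlock M (blockOf M (χ₀ : cz x ⧸ Subgroup.zpowers xC → ℂ)) := isPBlock_blockOf χ₀
        have hsub : ∀ ψ ∈ blockOf M (χ₀ : cz x ⧸ Subgroup.zpowers xC → ℂ), inflIrr ψ ∈ f := fun ψ hψ =>
          (mem_block_iff hf hχ₀).mpr (sameBlock_inflIrr hψ)
        rw [blockRank_inflation hM hN hNC hf hb' hsub, hd] at hb
        set d' := blockDefect p (blockOf M (χ₀ : cz x ⧸ Subgroup.zpowers xC → ℂ)) with hd'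
        have hlt : d' + 1 ≤ d := by
          have : d' + 1 ≤ blockDefect p f :=
            blockDefect_inflation_lt (p := p) hp.out (by rw [hNcard]) ⟨χ₀, self_mem_blockOf χ₀⟩ hsub
          omega
        have hrec := ih d' (by omega) _ _ hb' hd'.symm
        have hkb : Nat.card (blockOf M (χ₀ : cz x ⧸ Subgroup.zpowers xC → ℂ)) ≤ p ^ (2 * d - 4) := by
          rcases Nat.lt_or_ge d' 3 with h | h
          · exact (hrec.1 (by omega)).trans (Nat.pow_le_pow_right hp.out.pos (by omega))
          · exact (hrec.2 h).trans (Nat.pow_le_pow_right hp.out.pos (by omega))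
        have hsq : Nat.card B ^ 2 ≤ (p ^ (2 * d - 2)) ^ 2 := by
          refine hb.trans ((Nat.mul_le_mul_left _ ((blockRank_le_natCard _).trans hkb)).trans (le_of_eq ?_))
          rw [← pow_add, ← pow_mul]
          congr 1
          omega
        exact (Nat.pow_le_pow_iff_left (by omega)).mp hsq

end Cfsg.Agent.DefectTwo
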