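import Cfsg.Agent.Lib.Blocks.DefectOneCombi
import Mathlib.Algebra.Field.ZMod
import Mathlib.GroupTheory.Coset.Card
import Mathlib.Tactic.LinearCombination
import Mathlib.Tactic.Linarith
import Mathlib.Tactic.Positivity

/-!
# Quadratic forms of blocks of defect one

The rows of a block of defect one are integral functions on `ℤ/p` invariant under a subgroup of
units; the complementary form takes no small nonzero values.
-/

set_option linter.unusedSectionVars false

namespace Cfsg.Agent.DefectTwo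

open Cfsg.Agent.Blocks.D1

variable {ι : Type*}

/-- Lagrange's identity. -/
theorem lagrange_identity (s : Finset ι) (a u : ι → ℤ) :
    2 * ((∑ i ∈ s, a i ^ 2) * (∑ i ∈ s, u i ^ 2) - (∑ i ∈ s, a i * u i) ^ 2) =
      ∑ i ∈ s, ∑ j ∈ s, (a i * u j - a j * u i) ^ 2 := by
  have e : ∀ i j, (a i * u j - a j * u i) ^ 2 =
      a i ^ 2 * u j ^ 2 + u i ^ 2 * a j ^ 2 - 2 * ((a i * u i) * (a j * u j)) := fun i j => by ring
  simp only [e, Finset.sum_sub_distrib, Finset.sum_add_distrib, ← Finset.mul_sum, ← Finset.sum_mul]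
  ring

/-- A Lagrange form plus squares takes no small nonzero values. -/
theorem lagrange_bound (s : Finset ι) (a u : ι → ℤ) {b t : ℤ} (S : ℤ) (ht : 1 ≤ t)
    (ha : ∀ i ∈ s, a i ≠ 0) (hb : b ≠ 0) {Q : ℤ}
    (hQ : Q = t * ((∑ i ∈ s, a i ^ 2) * (∑ i ∈ s, u i ^ 2) - (∑ i ∈ s, a i * u i) ^ 2) +
      ∑ i ∈ s, (b * u i - S * a i) ^ 2) :
    Q = 0 ∨ (s.card : ℤ) ≤ Q := by
  classical
  have hL := lagrange_identity s a u
  by_cases hpar : ∀ i ∈ s, ∀ j ∈ s, a i * u j - a j * u i = 0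
  · rw [Finset.sum_eq_zero fun i hi => Finset.sum_eq_zero fun j hj => by rw [hpar i hi j hj]; ring,
      mul_eq_zero, or_iff_right (by norm_num)] at hL
    rw [hL, mul_zero, zero_add] at hQ
    by_cases h0 : ∃ i ∈ s, b * u i - S * a i = 0
    · obtain ⟨i, hi, hi0⟩ := h0
      refine Or.inl (hQ.trans (Finset.sum_eq_zero fun j hj => ?_))
      have h : a i * (b * u j - S * a j) = 0 := by
        linear_combination b * hpar i hi j hj + a j * hi0
      rw [(mul_eq_zero.mp h).resolve_left (ha i hi)]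
      ring
    · push Not at h0
      refine Or.inr (hQ ▸ ?_)
      rw [Finset.card_eq_sum_ones, Nat.cast_sum, Nat.cast_one]
      exact Finset.sum_le_sum fun i hi => by
        nlinarith [Int.one_le_abs (h0 i hi), sq_abs (b * u i - S * a i)]
  · push Not at hpar
    obtain ⟨i₀, hi₀, j₀, hj₀, hD⟩ := hpar
    have hne : i₀ ≠ j₀ := fun h => hD (by rw [h]; ring)
    set D : ι → ι → ℤ := fun i j => a i * u j - a j * u i with hDdef
    have hf : ∀ i ∈ s, 1 ≤ D i i₀ ^ 2 + D i j₀ ^ 2 := by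
      intro i hi
      by_contra hlt
      push Not at hlt
      have h1 : D i i₀ = 0 := by nlinarith [sq_nonneg (D i i₀), sq_nonneg (D i j₀)]
      have h2 : D i j₀ = 0 := by nlinarith [sq_nonneg (D i i₀), sq_nonneg (D i j₀)]
      simp only [hDdef] at h1 h2
      have h : a i * (a i₀ * u j₀ - a j₀ * u i₀) = 0 := by
        linear_combination a i₀ * h2 - a j₀ * h1
      exact hD ((mul_eq_zero.mp h).resolve_left (ha i hi))
    set s' := (s.erase i₀).erase j₀ with hs'
    have hj₀' : j₀ ∈ s.erase i₀ := Finset.mem_erase.mpr ⟨hne.symm, hj₀⟩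
    have hcard : s'.card + 2 = s.card := by
      have h1 := Finset.card_erase_add_one hi₀
      have h2 := Finset.card_erase_add_one hj₀'
      simp only [hs'] at h2 ⊢
      omega
    have hsplit : ∀ F : ι → ℤ, ∑ i ∈ s, F i = F i₀ + (F j₀ + ∑ i ∈ s', F i) := fun F => by
      rw [hs', Finset.add_sum_erase _ _ hj₀', Finset.add_sum_erase _ _ hi₀]
    have hrows : (s.card : ℤ) ≤ ∑ j ∈ s, D i₀ j ^ 2 + ∑ j ∈ s, D j₀ j ^ 2 := by
      rw [← Finset.sum_add_distrib, Finset.card_eq_sum_ones, Nat.cast_sum, Nat.cast_one]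
      refine Finset.sum_le_sum fun j hj => ?_
      have := hf j hj
      simp only [hDdef] at this ⊢
      linarith
    have hrest : (s'.card : ℤ) ≤ ∑ i ∈ s', ∑ j ∈ s, D i j ^ 2 := by
      rw [Finset.card_eq_sum_ones, Nat.cast_sum, Nat.cast_one]
      refine Finset.sum_le_sum fun i hi => ?_
      have hi' : i ∈ s := Finset.mem_of_mem_erase (Finset.mem_of_mem_erase hi)
      rw [hsplit]
      have := Finset.sum_nonneg (s := s') fun j _ => sq_nonneg (D i j)
      have := hf i hi'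
      linarith
    have h2L := hsplit fun i => ∑ j ∈ s, D i j ^ 2
    simp only [hDdef] at h2L hrows hrest
    rw [← hL] at h2L
    have hsq : 1 ≤ ∑ i ∈ s, (b * u i - S * a i) ^ 2 := by
      by_contra hlt
      have h0 := (Finset.sum_eq_zero_iff_of_nonneg (s := s) fun i _ => sq_nonneg (b * u i - S * a i)).mp
        (le_antisymm (by linarith [Int.lt_iff_add_one_le.mp (not_le.mp hlt)]) (Finset.sum_nonneg fun i _ => sq_nonneg _))
      have e : ∀ i ∈ s, b * u i = S * a i := fun i hi => by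
        have := sq_eq_zero_iff.mp (h0 i hi); linarith
      apply hD
      have h : b * (a i₀ * u j₀ - a j₀ * u i₀) = 0 := by
        linear_combination a i₀ * e j₀ hj₀ - a j₀ * e i₀ hi₀
      exact (mul_eq_zero.mp h).resolve_left hb
    refine Or.inr (hQ ▸ ?_)
    have hc : ((s'.card : ℤ) + 2 = s.card) := by exact_mod_cast hcard
    nlinarith

/-- The form attached to rows with the Gram matrix of a block of defect one. -/
theorem gram_bound {Φ J : Type*} [Fintype Φ] [DecidableEq Φ] [Fintype J] [DecidableEq J]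
    [Nonempty J] {A : Φ → J → ℤ} {e : ℤ}
    (hg : ∀ j k, ∑ χ, A χ j * A χ k = e + if j = k then 1 else 0) (w : Φ → ℤ) (hw : ∀ χ, 0 < w χ)
    (h0 : ∀ j, ∑ χ, w χ * A χ j = 0) (hnz : ∀ χ, ∃ j, A χ j ≠ 0) (z : Φ → ℤ) {Q : ℤ}
    (hQ : Q = (e * Fintype.card J + 1) * ∑ χ, z χ ^ 2 -
      ((e * Fintype.card J + 1) * ∑ j, (∑ χ, z χ * A χ j) ^ 2 -
        e * (∑ j, ∑ χ, z χ * A χ j) ^ 2)) :
    Q = 0 ∨ (Fintype.card Φ : ℤ) - Fintype.card J ≤ Q := by
  classical
  rcases isEmpty_or_nonempty Φ with hΦ | hΦ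
  · exact Or.inl (by rw [hQ]; simp)
  obtain ⟨j₀⟩ : Nonempty J := inferInstance
  obtain ⟨c, ε, b, hε, hinj, hform, hbc⟩ : ∃ (c : J → Φ) (ε : ℤ) (b : Φ → ℤ), (ε = 1 ∨ ε = -1) ∧
      Function.Injective c ∧ (∀ χ j, A χ j = b χ + ε * if χ = c j then 1 else 0) ∧
      ∀ j k, b (c j) = b (c k) := by
    by_cases ht : ∃ j₁, j₁ ≠ j₀
    · obtain ⟨j₁, hj₁⟩ := ht
      obtain ⟨c, ε, b, hε, hinj, hform, hb, -⟩ := Combi.exists_sunflower hg w hw h0 j₀ j₁ hj₁
      exact ⟨c, ε, b, hε, hinj, hform, hb⟩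
    · push Not at ht
      obtain ⟨χ₀⟩ := hΦ
      refine ⟨fun _ => χ₀, 1, fun χ => A χ j₀ - if χ = χ₀ then 1 else 0, Or.inl rfl,
        fun i j _ => (ht i).trans (ht j).symm, fun χ j => ?_, fun _ _ => rfl⟩
      rw [ht j]
      ring
  have hεε : ε * ε = 1 := by rcases hε with rfl | rfl <;> norm_num
  set m := b (c j₀) with hm
  set t : ℤ := (Fintype.card J : ℤ) with ht
  have ht1 : 1 ≤ t := by rw [ht]; exact_mod_cast Fintype.card_pos (α := J)
  set Y := Finset.univ.image c with hY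
  set X := Finset.univ \ Y with hX
  have hsum : ∀ F : Φ → ℤ, ∑ χ, F χ = ∑ χ ∈ X, F χ + ∑ j, F (c j) := fun F => by
    rw [hX, ← Finset.sum_sdiff (Finset.subset_univ Y), hY, Finset.sum_image hinj.injOn]
  have hXc : ∀ χ ∈ X, ∀ j, χ ≠ c j := fun χ hχ j h => by
    simp [hX, hY] at hχ
    exact hχ j h.symm
  have hAX : ∀ χ ∈ X, ∀ j, A χ j = b χ := fun χ hχ j => by
    rw [hform, if_neg (hXc χ hχ j), mul_zero, add_zero]
  have hAY : ∀ i j, A (c i) j = m + ε * if i = j then 1 else 0 := fun i j => by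
    rw [hform, hbc i j₀]
    simp only [hinj.eq_iff, hm]
  have ha : ∀ χ ∈ X, b χ ≠ 0 := fun χ hχ => by
    obtain ⟨j, hj⟩ := hnz χ
    rwa [hAX χ hχ] at hj
  have hb0 : t * m + ε ≠ 0 := by
    intro h
    have hd : t ∣ 1 := by
      rcases hε with rfl | rfl
      · exact ⟨-m, by linarith⟩
      · exact ⟨m, by linarith⟩
    have ht' : t = 1 := Int.eq_one_of_dvd_one (by omega) hd
    rw [ht', one_mul] at h
    have hsub : ∀ j, j = j₀ := fun j => Fintype.card_le_one_iff.mp (by rw [ht] at ht'; exact_mod_cast ht'.le) j j₀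
    obtain ⟨j, hj⟩ := hnz (c j₀)
    rw [hsub j, hAY, if_pos rfl, mul_one, h] at hj
    exact hj rfl
  have hgram : ∑ χ ∈ X, b χ ^ 2 + t * m ^ 2 + 2 * ε * m = e := by
    have h := hg j₀ j₀
    rw [hsum, if_pos rfl, Finset.sum_congr rfl fun χ hχ => by rw [hAX χ hχ],
      Finset.sum_congr rfl fun i _ => show A (c i) j₀ * A (c i) j₀ =
        m * m + (if i = j₀ then 2 * ε * m + ε * ε else 0) by
        rw [hAY]; split_ifs <;> ring] at h
    rw [Finset.sum_add_distrib, Finset.sum_const, Finset.card_univ, nsmul_eq_mul,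
      Finset.sum_ite_eq', if_pos (Finset.mem_univ _), hεε] at h
    simp only [sq]
    linarith
  set S := ∑ j, z (c j) with hS
  set AU := ∑ χ ∈ X, b χ * z χ with hAU
  have hF : ∀ j, ∑ χ, z χ * A χ j = (AU + m * S) + ε * z (c j) := fun j => by
    rw [hsum, Finset.sum_congr rfl fun χ hχ => by rw [hAX χ hχ, mul_comm],
      Finset.sum_congr rfl fun i _ => show z (c i) * A (c i) j =
        m * z (c i) + if i = j then ε * z (c i) else 0 by
        rw [hAY]; split_ifs <;> ring]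
    rw [Finset.sum_add_distrib, ← Finset.mul_sum, Finset.sum_ite_eq', if_pos (Finset.mem_univ _)]
    simp only [hS, hAU]
    ring
  have hF1 : ∑ j, ∑ χ, z χ * A χ j = t * (AU + m * S) + ε * S := by
    rw [Finset.sum_congr rfl fun j _ => hF j, Finset.sum_add_distrib, Finset.sum_const,
      Finset.card_univ, nsmul_eq_mul, ← Finset.mul_sum]
  have hF2 : ∑ j, (∑ χ, z χ * A χ j) ^ 2 =
      t * (AU + m * S) ^ 2 + 2 * ε * (AU + m * S) * S + ∑ j, z (c j) ^ 2 := by
    rw [Finset.sum_congr rfl fun j _ => show (∑ χ, z χ * A χ j) ^ 2 =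
      (AU + m * S) ^ 2 + (2 * ε * (AU + m * S) * z (c j) + z (c j) ^ 2) by
        rw [hF]; linear_combination z (c j) ^ 2 * hεε]
    rw [Finset.sum_add_distrib, Finset.sum_add_distrib, Finset.sum_const, Finset.card_univ,
      nsmul_eq_mul, ← Finset.mul_sum, ht]
    ring
  have hcard : (Fintype.card Φ : ℤ) - Fintype.card J = X.card := by
    have h := hsum fun _ => 1
    simp only [Finset.sum_const, Finset.card_univ, nsmul_eq_mul, mul_one] at h
    linarith
  rw [hcard]
  refine lagrange_bound X b z (b := t * m + ε) S ht1 ha hb0 ?_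
  rw [hQ, hsum, hF1, hF2, Finset.sum_congr rfl fun i _ => show ((t * m + ε) * z i - S * b i) ^ 2 =
    (t * m + ε) ^ 2 * z i ^ 2 + S ^ 2 * b i ^ 2 - 2 * (t * m + ε) * S * (b i * z i) by ring,
    Finset.sum_sub_distrib, Finset.sum_add_distrib, ← Finset.mul_sum, ← Finset.mul_sum,
    ← Finset.mul_sum, ← hgram, ← hAU]
  linear_combination (-(∑ i ∈ X, z i ^ 2) +
    (∑ i ∈ X, b i ^ 2 + t * m ^ 2 + 2 * ε * m) * S ^ 2) * hεε

end Cfsg.Agent.DefectTwo
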