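import Cfsg.Agent.Lib.Blocks.DefectTwo.Rows
import Cfsg.Agent.Lib.Blocks.NilMain
import Cfsg.Agent.Lib.Blocks.BlockCount
import Cfsg.Agent.Lib.Blocks.CentralDefectChars
import Cfsg.Agent.Lib.Blocks.DefectOneChar
import Cfsg.Agent.Lib.Blocks.SmallCentMain
import Cfsg.Agent.Lib.Blocks.FirstMain

/-!
# The regular form of a block of defect one

For a block of defect one the form `p ‖∑ z χ‖²` on the regular elements is zero or at least the
rank of the block.
-/

set_option linter.unusedSectionVars false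

namespace Cfsg.Agent.DefectTwo

open Cfsg.Agent.Blocks Cfsg.Agent.BPairs MonoidAlgebra
open scoped ComplexConjugate

universe u

variable {p : ℕ} [hp : Fact p.Prime]

/-- The sum over a fibre of the `p`-part, with the centralizer named. -/
theorem sum_fiber' {G : Type u} [Group G] [Fintype G] [DecidableEq G] {v : G} (H : Subgroup G)
    (hH : cz v = H) [Fintype H] [DecidablePred fun y : H => p ∣ orderOf y]
    (hv : ∃ k : ℕ, v ^ p ^ k = 1) (F : G → ℂ) :
    ∑ g ∈ Finset.univ.filter (fun g : G => pPart p g = v), F g =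
      ∑ y : H, if p ∣ orderOf y then 0 else F (v * (y : G)) := by
  subst hH
  exact sum_fiber hv F

/-- Fourier inversion on `ℤ/p`. -/
theorem fourier_inv (a : ZMod p → ℤ) (i : ZMod p) :
    ∑ k, (∑ j, (a j : ℂ) * D1.psi (k * j)) * D1.psi (-(i * k)) = (p : ℂ) * (a i : ℂ) := by
  have e : ∀ k j, (a j : ℂ) * D1.psi (k * j) * D1.psi (-(i * k)) =
      (a j : ℂ) * D1.psi ((j - i) * k) := fun k j => by
    rw [mul_assoc, ← D1.psi_add, show k * j + -(i * k) = (j - i) * k by ring]
  simp only [Finset.sum_mul, e]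
  rw [Finset.sum_comm]
  simp only [← Finset.mul_sum, D1.sum_psi_mul, sub_eq_zero, mul_ite, mul_zero, Finset.sum_ite_eq',
    Finset.mem_univ, if_true]
  ring

/-- Parseval's formula on `ℤ/p`. -/
theorem fourier_parseval (a b : ZMod p → ℤ) :
    ∑ k, (∑ i, (a i : ℂ) * D1.psi (k * i)) * conj (∑ i, (b i : ℂ) * D1.psi (k * i)) =
      (p : ℂ) * ∑ i, (a i : ℂ) * (b i : ℂ) := by
  have hc : ∀ c : ZMod p, conj (D1.psi c) = D1.psi (-c) := fun c => SmallCent.conj_psi c
  have e : ∀ k i j, (a i : ℂ) * D1.psi (k * i) * ((b j : ℂ) * D1.psi (-(k * j))) =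
      (a i : ℂ) * (b j : ℂ) * D1.psi ((i - j) * k) := fun k i j => by
    rw [mul_mul_mul_comm, ← D1.psi_add, show k * i + -(k * j) = (i - j) * k by ring]
  simp only [map_sum, map_mul, map_intCast, hc, Finset.sum_mul_sum, e]
  rw [Finset.sum_comm, Finset.mul_sum]
  refine Finset.sum_congr rfl fun i _ => ?_
  rw [Finset.sum_comm]
  simp only [← Finset.mul_sum, D1.sum_psi_mul, sub_eq_zero, mul_ite, mul_zero, Finset.sum_ite_eq,
    Finset.mem_univ, if_true]
  ring

section

variable {G : Type u} [Group G] [Fintype G] {M : Ideal AlgInt} [M.IsPrime]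

open Classical in
/-- The part of a character at a block of a subgroup containing the element. -/
theorem phi_eq_sum (hM : IsPModular p M) (θ : IrrCharacter G) (H : Subgroup G) [Fintype H]
    {b : Set (IrrCharacter H)} (hb : IsPBlock M b) (g : H) :
    phi p θ (g : G) (bel M H b) = ∑ ξ : IrrCharacter H,
      if ξ ∈ b then (CT.mult (fun h : H => (θ : G → ℂ) h) (ξ : H → ℂ) : ℂ) * (ξ : H → ℂ) g else 0 := by
  have hA := blockCoeff_mem_loc (M := M) hb
  obtain ⟨ε, hε⟩ : ∃ ε : MonoidAlgebra (Loc M) G,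
      ε = embH H (bIdem M b : MonoidAlgebra (Loc M) H) := ⟨_, rfl⟩
  have hεε : ε * ε = ε := by rw [hε, ← map_mul, ← Subring.coe_mul, bIdem_mul_self hA]
  have hεc : Commute ε (single (g : G) 1) :=
    hε ▸ isInv_iff_commute.mp (isInv_embH le_rfl (bIdem M b).2) _ g.2
  have hred : redG M G ε = bel M H b := by
    rw [hε, bel, redG, map_embH]; rfl
  rw [phi_eq_of_red hM θ hεε hεc hred, ev_charL_toC, map_mul, hε,
    show toC M G (embH H (bIdem M b : MonoidAlgebra (Loc M) H)) = embH H (idemC b) by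
      rw [toC, map_embH, toC_bIdem hA],
    toC_single, ← embH_single, ← map_mul, ev_embH]
  have hres : (fun h : H => (θ : G → ℂ) h) = ∑ ξ : IrrCharacter H,
      (CT.mult (fun h : H => (θ : G → ℂ) h) (ξ : H → ℂ) : ℂ) • (ξ : H → ℂ) :=
    CT.character_eq_sum (CT.isCharacter_restrict H (CT.isCharacter_of_isIrr θ.2))
  rw [hres, ev_sum_smul_fun]
  refine Finset.sum_congr rfl fun ξ _ => ?_
  rw [ev_idemC_mul, ← hres]
  by_cases hξ : ξ ∈ b
  · simp only [hξ, if_true, ev_single, one_mul]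
  · simp [hξ]

set_option maxHeartbeats 1000000 in
open Classical in
/-- The rows of a block of defect one. -/
theorem exists_rows (hM : IsPModular p M) {B : Set (IrrCharacter G)} (hB : IsPBlock M B)
    (hd : blockDefect p B = 1) :
    ∃ (U : Subgroup (ZMod p)ˣ) (f : IrrCharacter G → ZMod p → ℤ),
      (∀ χ i, ∀ w ∈ U, f χ (i * ((w : (ZMod p)ˣ) : ZMod p)) = f χ i) ∧
      (∀ χ ∈ B, ∀ ψ ∈ B,
        (Nat.card U : ℂ) * ((p : ℂ) * ((if χ = ψ then 1 else 0) - bfPair p χ ψ)) =
          (((p : ℤ) * ∑ i, f χ i * f ψ i - (∑ i, f χ i) * ∑ i, f ψ i : ℤ) : ℂ)) ∧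
      (Nat.card U : ℂ) * ∑ χ ∈ Finset.univ.filter (fun χ : IrrCharacter G => χ ∈ B),
        (p : ℂ) * (1 - bfPair p χ χ) = (p : ℂ) * ((p : ℂ) - 1) := by
  haveI := charP_res (M := M) hM
  obtain ⟨P, e, hmax⟩ := exists_maximal_of_block hM hB
  have hDG := isDefectGroup_of_maximal hM hmax
  have hPc : Nat.card P = p := by rw [card_defectGroup hM hB hDG, hd, pow_one]
  have hPne : P ≠ ⊥ := by
    rintro rfl
    rw [Subgroup.card_bot] at hPc
    exact hp.out.ne_one hPc.symm
  obtain ⟨x, hxP, hx1⟩ := P.bot_or_exists_ne_one.resolve_left hPne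
  have hord : orderOf x = p :=
    ((Nat.dvd_prime hp.out).mp (hPc ▸ Subgroup.orderOf_dvd_natCard P hxP)).resolve_left
      fun h => hx1 (orderOf_eq_one_iff.mp h)
  have hxz : Subgroup.zpowers x = P := Subgroup.eq_of_le_of_card_ge (Subgroup.zpowers_le.mpr hxP)
    (by rw [Nat.card_zpowers, hord, hPc])
  let C : Subgroup G := Subgroup.centralizer (P : Set G)
  letI : Fintype C := Fintype.ofFinite _
  -- powers of the generator
  obtain ⟨pw, hpw⟩ : ∃ pw : ZMod p → G, ∀ k, pw k = x ^ k.val := ⟨_, fun _ => rfl⟩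
  have hpwn : ∀ n : ℕ, x ^ n = pw (n : ZMod p) := fun n => by
    rw [hpw, ZMod.val_natCast, ← hord, pow_mod_orderOf]
  have hpw_mul : ∀ a b : ZMod p, (pw a) ^ b.val = pw (a * b) := fun a b => by
    rw [hpw a, ← pow_mul, hpwn]
    congr 1
    rw [Nat.cast_mul, ZMod.natCast_zmod_val, ZMod.natCast_zmod_val]
  have hpw_inj : ∀ a b : ZMod p, pw a = pw b → a = b := fun a b h => by
    rw [hpw, hpw, pow_eq_pow_iff_modEq, hord, ← ZMod.natCast_eq_natCast_iff,
      ZMod.natCast_zmod_val, ZMod.natCast_zmod_val] at h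
    exact h
  have hpw0 : pw 0 = 1 := by rw [hpw, ZMod.val_zero, pow_zero]
  have hpw1 : pw 1 = x := by rw [← Nat.cast_one, ← hpwn, pow_one]
  have hpwP : ∀ k, pw k ∈ P := fun k => hpw k ▸ pow_mem hxP _
  have hPpw : ∀ v ∈ P, ∃ k, pw k = v := fun v hv => by
    obtain ⟨n, rfl⟩ := mem_powers_iff_mem_zpowers.mpr (hxz ▸ hv : v ∈ Subgroup.zpowers x)
    exact ⟨_, (hpwn n).symm⟩
  have hpw_ne : ∀ k, k ≠ 0 → pw k ≠ 1 := fun k hk h => hk (hpw_inj k 0 (h.trans hpw0.symm))
  have hxord : x ^ p = 1 := orderOf_dvd_iff_pow_eq_one.mp hord.dvd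
  have hpwpp : ∀ k, pw k ^ p = 1 := fun k => by
    rw [hpw, ← pow_mul, mul_comm, pow_mul, hxord, one_pow]
  have hpwp : ∀ k, ∃ j : ℕ, pw k ^ p ^ j = 1 := fun k => ⟨1, by rw [pow_one]; exact hpwpp k⟩
  have hz : ∀ k, k ≠ 0 → Subgroup.zpowers (pw k) = P := fun k hk => by
    refine Subgroup.eq_of_le_of_card_ge (Subgroup.zpowers_le.mpr (hpwP k)) ?_
    rw [hPc, Nat.card_zpowers, orderOf_eq_prime (hpwpp k) (hpw_ne k hk)]
  have hcz : ∀ k, k ≠ 0 → cz (pw k) = C := fun k hk => by
    show Subgroup.centralizer _ = _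
    rw [hz k hk]
  have hcs : ∀ k, k ≠ 0 → Subgroup.centralizer ({pw k} : Set G) = C := fun k hk => by
    rw [← centralizer_zpowers_eq]; exact hcz k hk
  have hPC : P ≤ C := fun v hv => by
    rw [← hcz 1 one_ne_zero, hpw1]
    exact mem_cz.mpr (by
      obtain ⟨k, rfl⟩ := hPpw v hv
      rw [hpw]; exact Commute.pow_self x _)
  have hxcen : ∀ c ∈ C, Commute c x := fun c hc => by
    rw [← hcz 1 one_ne_zero, hpw1] at hc; exact mem_cz.mp hc
  let xC : C := ⟨x, hPC hxP⟩
  have hxCc : xC ∈ Subgroup.center C :=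
    Subgroup.mem_center_iff.mpr fun w => Subtype.ext (hxcen w w.2)
  have hxCp : xC ^ p = 1 := Subtype.ext (by simpa [xC] using hxord)
  choose ex hex using fun η : IrrCharacter C => SmallCent.exists_exp (p := p) hxCc hxCp η
  have he : IsPBlock M e := hmax.1.1.2
  have hind : IsInducedBlock M C e B := isInducedBlock_of_brauerPair hM hmax.1
  have heD := defect_of_induced (K := C) hM hPC le_rfl (Subgroup.centralizer_le_normalizer _) hind hDG
  have hed : blockDefect p e = 1 := by
    refine Nat.pow_right_injective hp.out.two_le ?_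
    dsimp only
    rw [← card_defectGroup hM he heD, Nat.card_congr (Subgroup.subgroupOfEquivOfLe hPC).toEquiv,
      hPc, pow_one]
  obtain ⟨hecard, hagree, hebf⟩ := central_block hM he heD (fun c hc => by
    refine Subgroup.mem_center_iff.mpr fun w => Subtype.ext ?_
    obtain ⟨k, hk⟩ := hPpw (c : G) hc
    show (w : G) * c = c * w
    rw [← hk, hpw]
    exact ((hxcen w w.2).pow_right _).eq)
  rw [hed, pow_one] at hebf
  obtain ⟨η0, hη0⟩ := block_nonempty he
  set a0 := bel M C e with ha0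
  have ha0c : ∀ c ∈ C, Commute a0 (single c 1) := fun c hc =>
    isInv_iff_commute.mp (isInv_bel C e) c hc
  -- the rows
  let m : IrrCharacter G → IrrCharacter C → ℤ := fun χ η =>
    if η ∈ e then (CT.mult (fun h : C => (χ : G → ℂ) h) (η : C → ℂ) : ℤ) else 0
  let f : IrrCharacter G → ZMod p → ℤ := fun χ i =>
    ∑ η ∈ Finset.univ.filter (fun η => ex η = i), m χ η
  obtain ⟨F, hF⟩ : ∃ F : IrrCharacter G → ZMod p → ℂ, ∀ χ k,
      F χ k = ∑ η, (m χ η : ℂ) * D1.psi (k * ex η) := ⟨_, fun _ _ => rfl⟩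
  have hFf : ∀ χ k, F χ k = ∑ i, (f χ i : ℂ) * D1.psi (k * i) := fun χ k => by
    rw [hF, ← Finset.sum_fiberwise Finset.univ ex]
    refine Finset.sum_congr rfl fun i _ => ?_
    simp only [f, Int.cast_sum, Finset.sum_mul]
    exact Finset.sum_congr rfl fun η hη => by rw [(Finset.mem_filter.mp hη).2]
  have hxk : ∀ k : ZMod p, ((xC ^ k.val : C) : G) = pw k := fun k => by simp [xC, hpw]
  have hphi : ∀ χ k, ∀ y : C, ¬ p ∣ orderOf y →
      phi p χ (pw k * (y : G)) a0 = F χ k * (η0 : C → ℂ) y := by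
    intro χ k y hy
    rw [← hxk, ← Subgroup.coe_mul, phi_eq_sum hM χ C he, hF, Finset.sum_mul]
    refine Finset.sum_congr rfl fun η _ => ?_
    simp only [m]
    split_ifs with h
    · rw [hex η k y, hagree η h η0 hη0 y hy, Int.cast_natCast, ← mul_assoc]
      rfl
    · simp
  have h1reg : ¬ p ∣ orderOf (1 : C) := by rw [orderOf_one]; exact hp.out.not_dvd_one
  -- the stabilizer
  set T := stabSub M P e with hT
  have hconjP : ∀ t ∈ T, ∃ u : ZMod p, t * x * t⁻¹ = pw u := fun t ht => by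
    obtain ⟨u, hu⟩ := hPpw _ ((Subgroup.mem_normalizer_iff.mp ht.1 x).mp hxP)
    exact ⟨u, hu.symm⟩
  have hconjk : ∀ t u, t * x * t⁻¹ = pw u → ∀ k, t * pw k * t⁻¹ = pw (u * k) := fun t u h k => by
    rw [hpw k, ← conj_pow, h, hpw_mul]
  choose uT huT using hconjP
  have huT0 : ∀ t ht, uT t ht ≠ 0 := fun t ht h => hx1 (by
    have h1 := huT t ht
    rw [h, hpw0] at h1
    calc x = t⁻¹ * (t * x * t⁻¹) * t := by group
      _ = 1 := by rw [h1]; group)
  let ρ : T →* (ZMod p)ˣ :=
    { toFun := fun t => Units.mk0 (uT t t.2) (huT0 t t.2)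
      map_one' := Units.ext (hpw_inj _ _ (by
        show pw (uT 1 _) = pw ((1 : (ZMod p)ˣ) : ZMod p)
        rw [← huT, Units.val_one, hpw1]; group))
      map_mul' := fun s t => Units.ext (hpw_inj _ _ (by
        show pw (uT (s * t : T) _) = pw (uT s s.2 * uT t t.2)
        rw [← huT, ← hconjk (s : G) _ (huT s s.2) (uT t t.2), ← huT]
        simp only [Subgroup.coe_mul]; group)) }
  have hCT : C ≤ T := fun c hc =>
    ⟨Subgroup.centralizer_le_normalizer _ hc, isInv_iff_conjA.mp (isInv_bel C e) c hc⟩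
  have hker : ρ.ker = C.subgroupOf T := by
    ext t
    rw [MonoidHom.mem_ker, Subgroup.mem_subgroupOf]
    constructor
    · intro h
      have h1 := huT t t.2
      rw [show uT t t.2 = ((ρ t : (ZMod p)ˣ) : ZMod p) from rfl, h, Units.val_one, hpw1] at h1
      rw [← hcz 1 one_ne_zero, hpw1]
      exact mem_cz.mpr (mul_inv_eq_iff_eq_mul.mp h1)
    · intro h
      refine Units.ext (hpw_inj _ _ ?_)
      show pw (uT t t.2) = _
      rw [← huT, Units.val_one, hpw1, (hxcen _ h).eq, mul_inv_cancel_right]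
  set U := ρ.range with hU
  have hcardT : Nat.card T = Nat.card U * Nat.card C := by
    rw [← ρ.ker.index_mul_card, Subgroup.index_ker, hker,
      Nat.card_congr (Subgroup.subgroupOfEquivOfLe hCT).toEquiv]
  have hFinv : ∀ χ, ∀ w ∈ U, ∀ k, F χ (((w : (ZMod p)ˣ) : ZMod p) * k) = F χ k := by
    rintro χ w ⟨t, rfl⟩ k
    have h1 := phi_conjA hM χ (t : G) (g := pw k) (bel_mul_self C he)
      (ha0c _ (hPC (hpwP k)))
    rw [hconjk _ _ (huT t t.2), t.2.2] at h1
    have e1 := hphi χ k 1 h1reg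
    have e2 := hphi χ (uT t t.2 * k) 1 h1reg
    rw [OneMemClass.coe_one, mul_one] at e1 e2
    rw [← ha0] at h1
    rw [e1, e2] at h1
    exact mul_right_cancel₀ (CT.irr_one_ne_zero η0.2) h1
  have hfour : ∀ χ i, (p : ℂ) * (f χ i : ℂ) = ∑ k, F χ k * D1.psi (-(i * k)) := fun χ i => by
    simp only [hFf]
    exact (fourier_inv (f χ) i).symm
  have hpC : (p : ℂ) ≠ 0 := Nat.cast_ne_zero.mpr hp.out.ne_zero
  have hfinv : ∀ χ i, ∀ w ∈ U, f χ (i * ((w : (ZMod p)ˣ) : ZMod p)) = f χ i := by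
    intro χ i w hw
    apply Int.cast_injective (α := ℂ)
    apply mul_left_cancel₀ hpC
    rw [hfour, hfour]
    refine Fintype.sum_equiv (Units.mulLeft w) _ _ fun k => ?_
    rw [Units.mulLeft_apply, hFinv χ w hw, mul_assoc i]
  have hFF : ∀ χ ψ, ∑ k ∈ Finset.univ.erase (0 : ZMod p), F χ k * conj (F ψ k) =
      (((p : ℤ) * ∑ i, f χ i * f ψ i - (∑ i, f χ i) * ∑ i, f ψ i : ℤ) : ℂ) := by
    intro χ ψ
    have hall : ∑ k, F χ k * conj (F ψ k) = (p : ℂ) * ∑ i, (f χ i : ℂ) * (f ψ i : ℂ) := by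
      simp only [hFf]
      exact fourier_parseval (f χ) (f ψ)
    rw [← Finset.add_sum_erase _ _ (Finset.mem_univ (0 : ZMod p))] at hall
    have h0 : ∀ φ, F φ 0 = ((∑ i, f φ i : ℤ) : ℂ) := fun φ => by
      simp [hFf, D1.psi_zero]
    rw [h0, h0, map_intCast] at hall
    push_cast at hall ⊢
    linear_combination hall
  -- the fibres
  obtain ⟨S, hS⟩ : ∃ S : IrrCharacter G → IrrCharacter G → G → MonoidAlgebra (Res M) G → ℂ,
      ∀ χ ψ v a, S χ ψ v a =
        ∑ g ∈ Finset.univ.filter (fun g : G => pPart p g = v), phi p χ g a * conj (phi p ψ g a) :=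
    ⟨_, fun _ _ _ _ => rfl⟩
  have hSval : ∀ χ ψ k, k ≠ 0 → S χ ψ (pw k) a0 =
      F χ k * conj (F ψ k) * ((Nat.card C : ℂ) * (p : ℂ)⁻¹) := by
    intro χ ψ k hk
    have hb : bfPair p η0 η0 = (p : ℂ)⁻¹ := eq_inv_of_mul_eq_one_right (hebf η0 hη0 η0 hη0)
    rw [hS, sum_fiber' C (hcz k hk) (hpwp k), ← hb, ← sum_regFun_mul, Finset.mul_sum]
    refine Finset.sum_congr rfl fun y _ => ?_
    simp only [regFun]
    by_cases hy : p ∣ orderOf y
    · simp [hy]
    · rw [if_neg hy, if_neg hy, hphi χ k y hy, hphi ψ k y hy, map_mul]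
      ring
  have hSconj : ∀ χ ψ g v, ∀ a ∈ blkIdem M v,
      S χ ψ (g * v * g⁻¹) (conjA g a) = S χ ψ v a := by
    intro χ ψ g v a ha
    rw [hS, hS, Finset.sum_filter, Finset.sum_filter]
    refine (Fintype.sum_equiv (MulAut.conj g).toEquiv _ _ fun h => ?_).symm
    simp only [MulEquiv.toEquiv_eq_coe, EquivLike.coe_coe, MulAut.conj_apply, pPart_conj,
      mul_left_inj, mul_right_inj]
    by_cases h' : pPart p h = v
    · rw [if_pos h', if_pos h', phi_conjA hM χ g (blkIdem_mul_self ha) (blk_commute (h' ▸ ha)),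
        phi_conjA hM ψ g (blkIdem_mul_self ha) (blk_commute (h' ▸ ha))]
    · rw [if_neg h', if_neg h']
  obtain ⟨N, hN⟩ : ∃ N : G → MonoidAlgebra (Res M) G → ℕ, N = fun v a =>
      (Finset.univ.filter fun g : G => BelAt p M P e (g * v * g⁻¹) (conjA g a)).card := ⟨_, rfl⟩
  have hNconj : ∀ g v a, N (g * v * g⁻¹) (conjA g a) = N v a := fun g v a => by
    simp only [hN]
    refine Finset.card_equiv (Equiv.mulRight g) fun h => ?_
    simp only [Finset.mem_filter, Finset.mem_univ, true_and, Equiv.coe_mulRight, conjA_conjA]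
    rw [show h * (g * v * g⁻¹) * h⁻¹ = h * g * v * (h * g)⁻¹ by group]
  have hbel : ∀ k, k ≠ 0 → BelAt p M P e (pw k) a0 := fun k hk =>
    belAt_of_le (hz k hk).symm Relation.ReflTransGen.refl
  have hNval : ∀ k, k ≠ 0 → N (pw k) a0 = Nat.card T := by
    intro k hk
    simp only [hN]
    rw [Nat.card_eq_fintype_card, Fintype.card_subtype]
    congr 1
    ext g
    simp only [Finset.mem_filter, Finset.mem_univ, true_and]
    constructor
    · intro h
      obtain ⟨k', hk'⟩ := hPpw _ (belAt_mem h)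
      have hk'0 : k' ≠ 0 := fun h0 => hpw_ne k hk (by
        rw [h0, hpw0] at hk'
        calc pw k = g⁻¹ * (g * pw k * g⁻¹) * g := by group
          _ = 1 := by rw [← hk']; group)
      rw [← hk'] at h
      refine ⟨?_, (belAt_unique hM hmax h (hbel k' hk'0))⟩
      have hmap : P.map (MulAut.conj g).toMonoidHom = P := by
        conv_lhs => rw [← hz k hk]
        rw [MonoidHom.map_zpowers]
        show Subgroup.zpowers (g * pw k * g⁻¹) = P
        rw [← hk', hz k' hk'0]
      refine Subgroup.mem_normalizer_iff.mpr fun v => ⟨fun hv => ?_, fun hv => ?_⟩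
      · rw [← hmap]; exact ⟨v, hv, rfl⟩
      · rw [← hmap] at hv
        obtain ⟨w, hw, hwv⟩ := hv
        rwa [show w = v from (MulAut.conj g).injective hwv] at hw
    · intro hg
      obtain ⟨k', hk'⟩ := hPpw _ ((Subgroup.mem_normalizer_iff.mp hg.1 _).mp (hpwP k))
      have hk'0 : k' ≠ 0 := fun h0 => hpw_ne k hk (by
        rw [h0, hpw0] at hk'
        calc pw k = g⁻¹ * (g * pw k * g⁻¹) * g := by group
          _ = 1 := by rw [← hk']; group)
      rw [hg.2, ← hk']
      exact hbel k' hk'0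
  have hmain : ∀ χ ∈ B, ∀ ψ ∈ B, (Nat.card G : ℂ) * ((if χ = ψ then 1 else 0) - bfPair p χ ψ) =
      (Nat.card G : ℂ) * ∑ k ∈ Finset.univ.erase (0 : ZMod p),
        S χ ψ (pw k) a0 / (Nat.card T : ℂ) := by
    intro χ hχ ψ hψ
    obtain ⟨W, hW⟩ : ∃ W : G → MonoidAlgebra (Res M) G → ℂ,
        ∀ v a, W v a = if v = 1 then 0 else 1 := ⟨_, fun _ _ => rfl⟩
    have hp1 : ∀ g : G, pPart p g = 1 ↔ ¬ p ∣ orderOf g := fun g => by
      refine ⟨fun h => ?_, fun h => pPart_eq (isPPart_one h)⟩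
      obtain ⟨y, hy, -, -, hreg⟩ := id (pPart_spec (p := p) g)
      rw [h, one_mul] at hy
      rwa [← hy]
    have hpsi : ∀ θ : IrrCharacter G, psi p W θ =
        fun g => if pPart p g = 1 then 0 else (θ : G → ℂ) g := fun θ => funext fun g => by
      simp only [psi, hW]
      by_cases h : pPart p g = 1
      · simp [h]
      · simp only [if_neg h, one_mul]
        exact sum_phi hM θ g
    have e1 : ∑ g, psi p W χ g * conj (psi p W ψ g) =
        (Nat.card G : ℂ) * ((if χ = ψ then 1 else 0) - bfPair p χ ψ) := by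
      rw [mul_sub, ← CT.irr_inner_subtype χ ψ, classInner, bfPair, classInner,
        mul_inv_cancel_left₀ CT.card_ne_zero, mul_inv_cancel_left₀ CT.card_ne_zero,
        ← Finset.sum_sub_distrib]
      refine Finset.sum_congr rfl fun g _ => ?_
      simp only [hpsi, regFun]
      by_cases h : p ∣ orderOf g
      · simp [h, mt (hp1 g).mp (not_not_intro h)]
      · simp [h, (hp1 g).mpr h]
    have e2 : ∑ g, psi p W χ g * conj (psi p W ψ g) =
        ∑ v, ∑ a ∈ blkIdem M v, (if v = 1 then 0 else S χ ψ v a) := by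
      rw [sum_psi_mul hM χ ψ, ← Finset.sum_fiberwise Finset.univ (pPart p)]
      refine Finset.sum_congr rfl fun v _ => ?_
      rw [Finset.sum_congr rfl fun g hg => show (∑ a ∈ blkIdem M (pPart p g),
        W (pPart p g) a * conj (W (pPart p g) a) * (phi p χ g a * conj (phi p ψ g a))) =
        ∑ a ∈ blkIdem M v, (if v = 1 then 0 else phi p χ g a * conj (phi p ψ g a)) by
          rw [(Finset.mem_filter.mp hg).2]
          refine Finset.sum_congr rfl fun a _ => ?_
          rw [hW]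
          by_cases h : v = 1 <;> simp [h], Finset.sum_comm]
      refine Finset.sum_congr rfl fun a _ => ?_
      by_cases h : v = 1
      · simp [h]
      · simp [h, hS]
    obtain ⟨X, hX⟩ : ∃ X : G → MonoidAlgebra (Res M) G → ℂ,
        ∀ v a, X v a = if v = 1 then 0 else S χ ψ v a / (N v a : ℂ) := ⟨_, fun _ _ => rfl⟩
    have hterm : ∀ v, ∀ a ∈ blkIdem M v, (if v = 1 then 0 else S χ ψ v a) =
        ∑ g : G, if BelAt p M P e (g * v * g⁻¹) (conjA g a) then X v a else 0 := by
      intro v a ha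
      rw [← Finset.sum_filter, Finset.sum_const, nsmul_eq_mul, hX]
      by_cases h1 : v = 1
      · simp [h1]
      rw [if_neg h1, if_neg h1,
        show (Finset.univ.filter fun g : G => BelAt p M P e (g * v * g⁻¹) (conjA g a)).card = N v a
          by rw [hN]]
      rcases eq_or_ne (N v a) 0 with h0 | h0
      · rw [h0, Nat.cast_zero, zero_mul, hS]
        refine Finset.sum_eq_zero fun g hg => ?_
        have hgv := (Finset.mem_filter.mp hg).2
        rw [phi_eq_zero_of_not_inB hM hB hχ (hgv ▸ ha) ?_, zero_mul]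
        intro hin
        rw [hgv] at hin
        obtain ⟨g', hg'⟩ := exists_belAt_of_inB hM hmax
          (hgv ▸ ppart_pow_eq_one (pPart_spec g)) ha hin
        simp only [hN, Finset.card_eq_zero, Finset.filter_eq_empty_iff] at h0
        exact h0 (Finset.mem_univ g') hg'
      · rw [mul_div_cancel₀ _ (Nat.cast_ne_zero.mpr h0)]
    have hshift : ∀ g : G, ∑ v, ∑ a ∈ blkIdem M v,
        (if BelAt p M P e (g * v * g⁻¹) (conjA g a) then X v a else 0) =
        ∑ k ∈ Finset.univ.erase (0 : ZMod p), X (pw k) a0 := by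
      intro g
      have e1' : ∑ v, ∑ a ∈ blkIdem M v,
          (if BelAt p M P e (g * v * g⁻¹) (conjA g a) then X v a else 0) =
          ∑ v, ∑ a ∈ blkIdem M v, (if BelAt p M P e v a then X v a else 0) := by
        refine Fintype.sum_equiv (MulAut.conj g).toEquiv _ _ fun v => ?_
        simp only [MulEquiv.toEquiv_eq_coe, EquivLike.coe_coe, MulAut.conj_apply]
        rw [sum_blkIdem_conj g v]
        refine Finset.sum_congr rfl fun a ha => if_congr Iff.rfl ?_ rfl
        rw [hX, hX, hNconj, hSconj χ ψ g v a ha]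
        refine if_congr ⟨fun h => by rw [h, mul_one, mul_inv_cancel],
          fun h => by
            calc v = g⁻¹ * (g * v * g⁻¹) * g := by group
              _ = 1 := by rw [h]; group⟩ rfl rfl
      rw [e1', ← Finset.sum_subset (Finset.subset_univ ((Finset.univ.erase (0 : ZMod p)).image pw))
        fun v _ hv => Finset.sum_eq_zero fun a _ => ?_,
        Finset.sum_image fun a _ c _ h => hpw_inj a c h]
      · refine Finset.sum_congr rfl fun k hk => ?_
        have hb := hbel k (Finset.ne_of_mem_erase hk)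
        have hmem : a0 ∈ blkIdem M (pw k) := by
          obtain ⟨f', hf', hff⟩ := hb
          exact hff ▸ mem_blkIdemS.mpr ⟨f', (isBrauerPair_of_subpair hf' hmax.1.1 :
            IsBrauerPair p M (Subgroup.zpowers (pw k)) f').2, rfl⟩
        rw [Finset.sum_eq_single_of_mem _ hmem fun a _ hne =>
          if_neg fun h => hne (belAt_unique hM hmax h hb), if_pos hb]
      · split_ifs with h
        · obtain ⟨k, rfl⟩ := hPpw _ (belAt_mem h)
          obtain rfl : k = 0 := by
            by_contra hk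
            exact hv (Finset.mem_image.mpr ⟨k, Finset.mem_erase.mpr ⟨hk, Finset.mem_univ _⟩, rfl⟩)
          rw [hX, if_pos hpw0]
        · rfl
    rw [← e1, e2, Finset.sum_congr rfl fun v _ => Finset.sum_congr rfl (hterm v),
      Finset.sum_congr rfl fun v _ => Finset.sum_comm, Finset.sum_comm,
      Finset.sum_congr rfl fun g _ => hshift g, Finset.sum_const, Finset.card_univ,
      ← Nat.card_eq_fintype_card, nsmul_eq_mul]
    refine congrArg _ (Finset.sum_congr rfl fun k hk => ?_)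
    rw [hX, if_neg (hpw_ne k (Finset.ne_of_mem_erase hk)), hNval k (Finset.ne_of_mem_erase hk)]
  have hU0 : (Nat.card U : ℂ) ≠ 0 := Nat.cast_ne_zero.mpr Nat.card_pos.ne'
  have hC0 : (Nat.card C : ℂ) ≠ 0 := Nat.cast_ne_zero.mpr Nat.card_pos.ne'
  have hY : ∀ χ ∈ B, ∀ ψ ∈ B,
      (Nat.card U : ℂ) * ((p : ℂ) * ((if χ = ψ then 1 else 0) - bfPair p χ ψ)) =
        ∑ k ∈ Finset.univ.erase (0 : ZMod p), F χ k * conj (F ψ k) := by
    intro χ hχ ψ hψ
    rw [mul_left_cancel₀ CT.card_ne_zero (hmain χ hχ ψ hψ), Finset.mul_sum, Finset.mul_sum]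
    refine Finset.sum_congr rfl fun k hk => ?_
    rw [hSval χ ψ k (Finset.ne_of_mem_erase hk), hcardT, Nat.cast_mul]
    field_simp
  refine ⟨U, f, hfinv, fun χ hχ ψ hψ => (hY χ hχ ψ hψ).trans (hFF χ ψ), ?_⟩
  -- the trace
  have hrank : (blockRank p e : ℂ) = 1 := by
    rw [← sum_bfPair_self hM he, Finset.sum_congr rfl fun η _ => show
        (if η ∈ e then bfPair p η η else 0) = if η ∈ e then (p : ℂ)⁻¹ else 0 by
      split_ifs with h
      · exact eq_inv_of_mul_eq_one_right (hebf η h η h)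
      · rfl, ← Finset.sum_filter, Finset.sum_const, nsmul_eq_mul]
    rw [show (Finset.univ.filter fun η => η ∈ e).card = p by
      rw [← Fintype.card_subtype, ← Nat.card_eq_fintype_card]
      exact hecard.trans (by rw [hed, pow_one]), mul_inv_cancel₀ hpC]
  have hF2 : ∀ k, k ≠ 0 → ∑ χ ∈ Finset.univ.filter (fun χ : IrrCharacter G => χ ∈ B),
      F χ k * conj (F χ k) = (p : ℂ) := by
    intro k hk
    have h := sum_regular_blockPart hM (hpwp k) C (hcs k hk) hind
    rw [hrank, mul_one, finsum_mem_irr, ← Finset.sum_filter] at h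
    have hval : ∀ χ : IrrCharacter G, ∀ y : C, ¬ p ∣ orderOf y →
        blockPart e (fun c : C => (χ : G → ℂ) (pw k * (c : G))) y = F χ k * (η0 : C → ℂ) y := by
      intro χ y hy
      have hdec : (fun c : C => (χ : G → ℂ) (pw k * (c : G))) = ∑ ξ : IrrCharacter C,
          ((CT.mult (fun h : C => (χ : G → ℂ) h) (ξ : C → ℂ) : ℂ) * D1.psi (k * ex ξ)) •
            (ξ : C → ℂ) := by
        funext c
        have hd' := congrFun (CT.character_eq_sum (CT.isCharacter_restrict C
          (CT.isCharacter_of_isIrr χ.2))) (xC ^ k.val * c)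
        simp only [Subgroup.coe_mul, hxk] at hd'
        refine hd'.trans ?_
        simp only [Finset.sum_apply, Pi.smul_apply, smul_eq_mul]
        refine Finset.sum_congr rfl fun ξ _ => ?_
        rw [hex ξ k c, ← mul_assoc]
        rfl
      simp only [blockPart]
      rw [Subsingleton.elim (Fintype.ofFinite C) ‹Fintype C›, finsum_mem_irr, hF, Finset.sum_mul]
      refine Finset.sum_congr rfl fun η _ => ?_
      simp only [m]
      by_cases hη : η ∈ e
      · rw [if_pos hη, if_pos hη, hdec, CT.classInner_sum_left, Finset.sum_eq_single η,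
          CT.classInner_smul_left, CT.irr_inner_self η.2, mul_one, hagree η hη η0 hη0 y hy,
          Int.cast_natCast]
        · intro ξ _ hne
          rw [CT.classInner_smul_left, CT.irr_inner_subtype, if_neg hne, mul_zero]
        · simp
      · simp [hη]
    have hsq : ∑ y : C, regFun p η0 y * conj (regFun p η0 y) = (Nat.card C : ℂ) * (p : ℂ)⁻¹ := by
      rw [sum_regFun_mul, eq_inv_of_mul_eq_one_right (hebf η0 hη0 η0 hη0)]
    rw [Finset.sum_congr rfl fun (χ : IrrCharacter G) _ => show (∑ y : C, (if p ∣ orderOf y then (0 : ℂ) else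
        blockPart e (fun c : C => (χ : G → ℂ) (pw k * (c : G))) y *
          conj (blockPart e (fun c : C => (χ : G → ℂ) (pw k * (c : G))) y))) =
        (F χ k * conj (F χ k)) * ((Nat.card C : ℂ) * (p : ℂ)⁻¹) by
      rw [← hsq, Finset.mul_sum]
      refine Finset.sum_congr rfl fun y _ => ?_
      simp only [regFun]
      by_cases hy : p ∣ orderOf y
      · simp [hy]
      · rw [if_neg hy, if_neg hy, hval χ y hy, map_mul]
        ring, ← Finset.sum_mul] at h
    field_simp at h
    linear_combination h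
  rw [Finset.mul_sum, Finset.sum_congr rfl fun χ hχ => show
      (Nat.card U : ℂ) * ((p : ℂ) * (1 - bfPair p χ χ)) =
        ∑ k ∈ Finset.univ.erase (0 : ZMod p), F χ k * conj (F χ k) by
      simpa using hY χ (Finset.mem_filter.mp hχ).2 χ (Finset.mem_filter.mp hχ).2,
    Finset.sum_comm, Finset.sum_congr rfl fun k hk => hF2 k (Finset.ne_of_mem_erase hk),
    Finset.sum_const, Finset.card_erase_of_mem (Finset.mem_univ _), Finset.card_univ, ZMod.card,
    nsmul_eq_mul, Nat.cast_sub hp.out.one_le, Nat.cast_one]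
  ring

open Classical in
/-- In a block of defect one the regular form is zero or at least the rank of the block. -/
theorem one_form (hM : IsPModular p M) {B : Set (IrrCharacter G)} (hB : IsPBlock M B)
    (hd : blockDefect p B = 1) (z : IrrCharacter G → ℤ) (hz : ∀ χ, χ ∉ B → z χ = 0) {Q : ℤ}
    (hQ : (Q : ℂ) = (p : ℂ) * ∑ χ, ∑ ψ, (z χ : ℂ) * (z ψ : ℂ) * bfPair p χ ψ) :
    Q = 0 ∨ (blockRank p B : ℤ) ≤ Q := by
  obtain ⟨U, f, hinv, hY, htr⟩ := exists_rows hM hB hd
  letI : Fintype U := Fintype.ofFinite _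
  have hXex : ∀ χ ψ : IrrCharacter G, ∃ X : ℤ, χ ∈ B → (p : ℂ) * bfPair p χ ψ = (X : ℂ) := by
    intro χ ψ
    by_cases h : χ ∈ B
    · obtain ⟨X, hX⟩ := exists_int_bfPair hM h ψ
      rw [hd, pow_one] at hX
      exact ⟨X, fun _ => hX⟩
    · exact ⟨0, fun h' => absurd h' h⟩
  choose X hX using hXex
  let Φ := {χ : IrrCharacter G // χ ∈ B}
  let Y : Φ → Φ → ℤ := fun χ ψ => (if χ = ψ then (p : ℤ) else 0) - X χ ψ
  have hYC : ∀ χ ψ : Φ, (Y χ ψ : ℂ) =
      (p : ℂ) * ((if (χ : IrrCharacter G) = ψ then 1 else 0) - bfPair p (χ : IrrCharacter G) ψ) := by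
    intro χ ψ
    simp only [Y, Int.cast_sub, ← hX _ ψ χ.2, Subtype.coe_inj]
    split_ifs <;> push_cast <;> ring
  have hsub : ∀ g : IrrCharacter G → ℂ, (∀ χ, χ ∉ B → g χ = 0) → ∑ χ : Φ, g χ = ∑ χ, g χ :=
    fun g hg => by
      rw [← Finset.sum_subtype (Finset.univ.filter fun χ => χ ∈ B) (fun x => by simp) g]
      exact Finset.sum_subset (Finset.subset_univ _) fun χ _ h =>
        hg χ fun h' => h (Finset.mem_filter.mpr ⟨Finset.mem_univ _, h'⟩)
  have hbf0 : ∀ χ ∈ B, ∀ ψ, ψ ∉ B → bfPair p χ ψ = 0 := fun χ hχ ψ hψ =>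
    bfPair_zero_of_mem hM hB hχ hψ
  have hYI : ∀ χ ψ : Φ, (Nat.card U : ℤ) * Y χ ψ =
      (p : ℤ) * ∑ i, f χ i * f ψ i - (∑ i, f χ i) * ∑ i, f ψ i := by
    intro χ ψ
    apply Int.cast_injective (α := ℂ)
    rw [Int.cast_mul, hYC, Int.cast_natCast]
    exact hY χ χ.2 ψ ψ.2
  have hYY : ∀ χ : Φ, ∑ φ, Y χ φ * Y φ χ = (p : ℤ) * Y χ χ := by
    intro χ
    apply Int.cast_injective (α := ℂ)
    push_cast
    simp only [hYC]
    let g : IrrCharacter G → ℂ := fun φ => bfPair p (χ : IrrCharacter G) φ * bfPair p φ χ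
    have hg : ∑ φ : Φ, g φ = bfPair p (χ : IrrCharacter G) χ :=
      (hsub g fun φ hφ => by simp only [g]; rw [hbf0 _ χ.2 φ hφ, zero_mul]).trans (bfPair_idem _ _)
    rw [Finset.sum_congr rfl fun (φ : Φ) _ => show (p : ℂ) *
        ((if (χ : IrrCharacter G) = φ then 1 else 0) - bfPair p (χ : IrrCharacter G) φ) *
        ((p : ℂ) * ((if (φ : IrrCharacter G) = χ then 1 else 0) - bfPair p (φ : IrrCharacter G) χ)) =
        (if φ = χ then (p : ℂ) ^ 2 * (1 - 2 * bfPair p (χ : IrrCharacter G) χ) else 0) +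
          (p : ℂ) ^ 2 * g φ by
      simp only [g]
      by_cases h : φ = χ
      · subst h; simp only [if_true]; ring
      · have h' : ¬ (φ : IrrCharacter G) = χ := fun e => h (Subtype.ext e)
        rw [if_neg h, if_neg h', if_neg (Ne.symm h')]; ring]
    rw [Finset.sum_add_distrib, Finset.sum_ite_eq', if_pos (Finset.mem_univ _), ← Finset.mul_sum, hg]
    simp only [if_true]
    ring
  have htrI : (Nat.card U : ℤ) * ∑ χ : Φ, Y χ χ = (p : ℤ) * ((p : ℤ) - 1) := by
    apply Int.cast_injective (α := ℂ)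
    push_cast
    simp only [hYC, if_pos]
    rw [← htr]
    exact congrArg _ (Finset.sum_subtype (Finset.univ.filter fun χ : IrrCharacter G => χ ∈ B)
      (fun x => by simp) fun χ => (p : ℂ) * (1 - bfPair p χ χ)).symm
  let w : Φ → ℤ := fun χ => (charDegree ((χ : IrrCharacter G) : G → ℂ) : ℤ)
  have hw0 : ∀ χ : Φ, ∑ ψ, w ψ * Y ψ χ = 0 := by
    intro χ
    apply Int.cast_injective (α := ℂ)
    push_cast
    simp only [hYC, w, Int.cast_natCast, ← charDegree_cast]
    let g : IrrCharacter G → ℂ := fun ψ => bfPair p (χ : IrrCharacter G) ψ * (ψ : G → ℂ) 1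
    have hg : ∑ ψ : Φ, g ψ = ((χ : IrrCharacter G) : G → ℂ) 1 := by
      rw [hsub g fun φ hφ => by simp only [g]; rw [hbf0 _ χ.2 φ hφ, zero_mul]]
      have h := congrFun (CT.classFunction_eq_sum (regFun_class (p := p) (χ : IrrCharacter G))) 1
      simp only [Finset.sum_apply, Pi.smul_apply, smul_eq_mul, regFun, orderOf_one,
        if_neg hp.out.not_dvd_one] at h
      exact h.symm
    rw [Finset.sum_congr rfl fun (ψ : Φ) _ => show ((ψ : IrrCharacter G) : G → ℂ) 1 * ((p : ℂ) *
        ((if (ψ : IrrCharacter G) = χ then 1 else 0) - bfPair p (ψ : IrrCharacter G) χ)) =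
        (if ψ = χ then (p : ℂ) * ((χ : IrrCharacter G) : G → ℂ) 1 else 0) - (p : ℂ) * g ψ by
      simp only [g, Subtype.coe_inj, bfPair_symm (ψ : IrrCharacter G) χ]
      split_ifs with h
      · subst h; ring
      · ring]
    rw [Finset.sum_sub_distrib, Finset.sum_ite_eq', if_pos (Finset.mem_univ _), ← Finset.mul_sum,
      hg, sub_self]
  have hh0 : ∀ χ ∈ B, blockHeight p B (χ : G → ℂ) = 0 := fun χ hχ => by
    by_contra h
    have := (height_bound hM hB hχ (Nat.pos_of_ne_zero h)).1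
    omega
  have hnz : ∀ χ : Φ, Y χ χ ≠ 0 := by
    intro χ h0
    have h1 : bfPair p (χ : IrrCharacter G) χ = 1 := by
      have h := congrArg (Int.cast : ℤ → ℂ) h0
      rw [hYC, if_pos rfl, Int.cast_zero, mul_eq_zero,
        or_iff_right (Nat.cast_ne_zero.mpr hp.out.ne_zero), sub_eq_zero] at h
      exact h.symm
    have hrow := hYY χ
    rw [h0, mul_zero] at hrow
    have hYs : ∀ φ ψ : Φ, Y φ ψ = Y ψ φ := fun φ ψ => Int.cast_injective (α := ℂ) (by
      rw [hYC, hYC, bfPair_symm]; simp only [eq_comm])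
    have hall : ∀ φ, Y χ φ = 0 := fun φ => by
      have := (Finset.sum_eq_zero_iff_of_nonneg fun ψ _ => by
        rw [hYs ψ χ]; exact mul_self_nonneg _).mp hrow φ (Finset.mem_univ _)
      rw [hYs φ χ] at this
      exact mul_self_eq_zero.mp this
    have hone : ∀ φ : Φ, φ = χ := fun φ => by
      by_contra hne
      have h := congrArg (Int.cast : ℤ → ℂ) (hall φ)
      rw [hYC, if_neg fun e => hne (Subtype.ext e).symm, zero_sub, Int.cast_zero, mul_eq_zero,
        or_iff_right (Nat.cast_ne_zero.mpr hp.out.ne_zero), neg_eq_zero] at h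
      exact bfPair_ne_zero hM hB χ.2 φ.2 (hh0 _ χ.2) h
    rw [Finset.sum_eq_single χ (fun φ _ hne => absurd (hone φ) hne) (by simp), h0, mul_zero] at htrI
    have : (2 : ℤ) ≤ p := by exact_mod_cast hp.out.two_le
    nlinarith
  have hl : (p : ℤ) * (blockRank p B : ℤ) = (p : ℤ) * Fintype.card Φ - ∑ χ : Φ, Y χ χ := by
    apply Int.cast_injective (α := ℂ)
    push_cast
    rw [← sum_bfPair_self hM hB, ← Finset.sum_filter,
      Finset.sum_subtype (Finset.univ.filter fun χ : IrrCharacter G => χ ∈ B)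
        (p := fun χ => χ ∈ B) (fun x => by simp) (fun χ => bfPair p χ χ)]
    simp only [hYC, if_pos, mul_sub, Finset.sum_sub_distrib, ← Finset.mul_sum, Finset.sum_const,
      Finset.card_univ, nsmul_eq_mul, mul_one]
    ring
  refine rows_bound U (fun χ : Φ => hinv χ) hYI hYY htrI w
    (fun χ => by simp only [w]; exact_mod_cast charDegree_pos (χ : IrrCharacter G)) hw0 hnz
    (fun χ : Φ => z χ) hl ?_
  apply Int.cast_injective (α := ℂ)
  rw [hQ]
  push_cast
  simp only [hYC]
  rw [Finset.mul_sum, Finset.mul_sum, ← hsub _ fun χ hχ => by simp [hz χ hχ],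
    ← Finset.sum_sub_distrib]
  refine Finset.sum_congr rfl fun χ _ => ?_
  rw [← hsub _ fun ψ hψ => by simp [hz ψ hψ], Finset.mul_sum]
  rw [Finset.sum_congr rfl fun (ψ : Φ) _ => show (z χ : ℂ) * (z ψ : ℂ) * ((p : ℂ) *
      ((if (χ : IrrCharacter G) = ψ then 1 else 0) - bfPair p (χ : IrrCharacter G) ψ)) =
      (if ψ = χ then (p : ℂ) * (z χ : ℂ) ^ 2 else 0) -
        (p : ℂ) * ((z χ : ℂ) * (z ψ : ℂ) * bfPair p (χ : IrrCharacter G) ψ) by
    by_cases h : ψ = χ
    · subst h; simp only [if_true]; ring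
    · rw [if_neg h, if_neg fun e => h (Subtype.ext e).symm]; ring]
  rw [Finset.sum_sub_distrib, Finset.sum_ite_eq', if_pos (Finset.mem_univ _)]
  ring

end

end Cfsg.Agent.DefectTwo
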