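import Cfsg.Agent.Lib.Blocks.DefectTwo.Form

/-!
# Gram matrices of invariant rows from idempotence

Integral functions on `ℤ/p`, invariant under a subgroup `U` of units, whose centred products form
a scaled idempotent of the right trace have the Gram matrix of a block of defect one.
-/

set_option linter.unusedSectionVars false

namespace Cfsg.Agent.DefectTwo

variable {p : ℕ} [hp : Fact p.Prime] {Φ : Type*} [Fintype Φ]

/-- The centred row. -/
def centred (f : Φ → ZMod p → ℤ) (χ : Φ) (i : ZMod p) : ℤ := (p : ℤ) * f χ i - ∑ k, f χ k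

theorem sum_centred (f : Φ → ZMod p → ℤ) (χ : Φ) : ∑ i, centred f χ i = 0 := by
  simp only [centred, Finset.sum_sub_distrib, ← Finset.mul_sum, Finset.sum_const, Finset.card_univ,
    ZMod.card, nsmul_eq_mul]
  ring

theorem centred_inner (f : Φ → ZMod p → ℤ) (χ ψ : Φ) :
    ∑ i, centred f χ i * centred f ψ i =
      (p : ℤ) * ((p : ℤ) * ∑ i, f χ i * f ψ i - (∑ i, f χ i) * ∑ i, f ψ i) := by
  have e : ∀ i, centred f χ i * centred f ψ i = (p : ℤ) ^ 2 * (f χ i * f ψ i) -
      (p : ℤ) * (∑ k, f ψ k) * f χ i - (p : ℤ) * (∑ k, f χ k) * f ψ i +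
        (∑ k, f χ k) * ∑ k, f ψ k := fun i => by simp only [centred]; ring
  rw [Finset.sum_congr rfl fun i _ => e i, Finset.sum_add_distrib, Finset.sum_sub_distrib,
    Finset.sum_sub_distrib, ← Finset.mul_sum, ← Finset.mul_sum, ← Finset.mul_sum, Finset.sum_const,
    Finset.card_univ, ZMod.card, nsmul_eq_mul]
  ring

variable (U : Subgroup (ZMod p)ˣ) [Fintype U]

/-- The expected product matrix. -/
def target (i j : ZMod p) : ℤ :=
  (p : ℤ) * ∑ w : U, ((p : ℤ) * (if i = j * ((w : (ZMod p)ˣ) : ZMod p) then 1 else 0) - 1)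

theorem sum_target_mul (a : ZMod p → ℤ) (j : ZMod p) :
    ∑ i, a i * target U i j =
      (p : ℤ) ^ 2 * ∑ w : U, a (j * ((w : (ZMod p)ˣ) : ZMod p)) -
        (p : ℤ) * (Nat.card U : ℤ) * ∑ i, a i := by
  classical
  simp only [target, Finset.mul_sum, mul_sub, Finset.sum_sub_distrib]
  congr 1
  · rw [Finset.sum_comm]
    refine Finset.sum_congr rfl fun w _ => ?_
    rw [Finset.sum_eq_single (j * ((w : (ZMod p)ˣ) : ZMod p)) (fun i _ hi => by rw [if_neg hi]; ring)
      (by simp), if_pos rfl]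
    ring
  · refine Finset.sum_congr rfl fun i _ => ?_
    rw [Finset.sum_const, Finset.card_univ, ← Nat.card_eq_fintype_card, nsmul_eq_mul]
    ring

theorem sum_target_sq : ∑ j, ∑ i, target U i j * target U i j =
    (p : ℤ) ^ 4 * (Nat.card U : ℤ) * ((p : ℤ) - 1) := by
  classical
  have h0 : ∀ j : ZMod p, ∑ i, target U i j = 0 := fun j => by
    have h := sum_target_mul U (fun _ => (1 : ℤ)) j
    simp only [one_mul, Finset.sum_const, Finset.card_univ, nsmul_eq_mul, mul_one, ZMod.card,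
      ← Nat.card_eq_fintype_card, Nat.card_zmod] at h
    rw [h]; ring
  simp only [sum_target_mul U (fun i => target U i _), h0, mul_zero, sub_zero, ← Finset.mul_sum]
  have hw : ∀ w : U, ∑ j, target U (j * ((w : (ZMod p)ˣ) : ZMod p)) j = (p : ℤ) ^ 2 * ((p : ℤ) - 1) := by
    intro w
    simp only [target, ← Finset.mul_sum, Finset.sum_sub_distrib, Finset.sum_const, Finset.card_univ,
      ZMod.card, nsmul_eq_mul]
    rw [Finset.sum_comm, ← Finset.add_sum_erase _ _ (Finset.mem_univ w)]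
    have h1 : ∀ v ∈ Finset.univ.erase w, ∑ j : ZMod p,
        (if j * ((w : (ZMod p)ˣ) : ZMod p) = j * ((v : (ZMod p)ˣ) : ZMod p) then (1 : ℤ) else 0) = 1 := by
      intro v hv
      rw [Finset.sum_eq_single 0 (fun j _ hj => if_neg fun h => (Finset.ne_of_mem_erase hv)
        (Subtype.ext (Units.ext (mul_left_cancel₀ hj h)).symm)) (by simp)]
      simp
    rw [Finset.sum_congr rfl h1, Finset.sum_const, Finset.card_erase_of_mem (Finset.mem_univ w),
      Finset.card_univ, nsmul_eq_mul, Nat.cast_sub Fintype.card_pos]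
    simp only [if_true, Finset.sum_const, Finset.card_univ, ZMod.card, nsmul_eq_mul]
    push_cast
    ring
  rw [Finset.sum_comm, Finset.sum_congr rfl fun w _ => hw w, Finset.sum_const, Finset.card_univ,
    ← Nat.card_eq_fintype_card, nsmul_eq_mul]
  ring

variable {f : Φ → ZMod p → ℤ} {Y : Φ → Φ → ℤ}

/-- The Gram matrix of the centred rows. -/
theorem centred_gram (hinv : ∀ χ i, ∀ w ∈ U, f χ (i * ((w : (ZMod p)ˣ) : ZMod p)) = f χ i)
    (hY : ∀ χ ψ, (Nat.card U : ℤ) * Y χ ψ =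
      (p : ℤ) * ∑ i, f χ i * f ψ i - (∑ i, f χ i) * ∑ i, f ψ i)
    (hYY : ∀ χ, ∑ φ, Y χ φ * Y φ χ = (p : ℤ) * Y χ χ)
    (htr : (Nat.card U : ℤ) * ∑ χ, Y χ χ = (p : ℤ) * ((p : ℤ) - 1)) (i j : ZMod p) :
    ∑ χ, centred f χ i * centred f χ j = target U i j := by
  classical
  set e : ℤ := (Nat.card U : ℤ) with he
  set R : ZMod p → ZMod p → ℤ := fun i j => ∑ χ, centred f χ i * centred f χ j with hR
  have hinner : ∀ χ ψ, ∑ i, centred f χ i * centred f ψ i = (p : ℤ) * (e * Y χ ψ) := fun χ ψ => by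
    rw [centred_inner, hY]
  have hsym : ∀ χ ψ, e * Y χ ψ = e * Y ψ χ := fun χ ψ => by
    rw [hY, hY]; simp only [mul_comm (f χ _)]; ring
  have hRR : ∑ j, ∑ i, R i j * R i j = (p : ℤ) ^ 4 * e * ((p : ℤ) - 1) := by
    have e1 : ∀ j i, R i j * R i j = ∑ χ, ∑ ψ, (centred f χ j * centred f ψ j) *
        (centred f χ i * centred f ψ i) := fun j i => by
      simp only [hR, Finset.sum_mul_sum]
      exact Finset.sum_congr rfl fun χ _ => Finset.sum_congr rfl fun ψ _ => by ring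
    simp only [e1]
    rw [Finset.sum_congr rfl fun j _ => Finset.sum_comm, Finset.sum_comm]
    have e2 : ∀ χ, ∑ j, ∑ i, ∑ ψ, (centred f χ j * centred f ψ j) *
        (centred f χ i * centred f ψ i) = (p : ℤ) ^ 3 * e * (e * Y χ χ) := fun χ => by
      rw [Finset.sum_congr rfl fun j _ => Finset.sum_comm, Finset.sum_comm]
      simp only [← Finset.mul_sum, hinner, ← Finset.sum_mul]
      rw [show (p : ℤ) ^ 3 * e * (e * Y χ χ) = (p : ℤ) ^ 2 * (e * e) * ((p : ℤ) * Y χ χ) by ring,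
        ← hYY χ, Finset.mul_sum]
      refine Finset.sum_congr rfl fun ψ _ => ?_
      linear_combination (p : ℤ) ^ 2 * (e * Y χ ψ) * hsym χ ψ
    rw [Finset.sum_congr rfl fun χ _ => e2 χ, ← Finset.mul_sum, ← Finset.mul_sum, htr]
    ring
  have hR0 : ∀ j, ∑ i, R i j = 0 := fun j => by
    simp only [hR]
    rw [Finset.sum_comm]
    simp only [← Finset.sum_mul, sum_centred, zero_mul, Finset.sum_const_zero]
  have hRw : ∀ (w : U) j, R (j * ((w : (ZMod p)ˣ) : ZMod p)) j = R j j := fun w j => by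
    refine Finset.sum_congr rfl fun χ _ => ?_
    simp only [centred, hinv χ j w w.2]
  have hRT : ∑ j, ∑ i, R i j * target U i j = (p : ℤ) ^ 4 * e * ((p : ℤ) - 1) := by
    simp only [sum_target_mul U (fun i => R i _), hR0, mul_zero, sub_zero, hRw, Finset.sum_const,
      Finset.card_univ, ← Nat.card_eq_fintype_card, nsmul_eq_mul, ← Finset.mul_sum, ← he]
    have : ∑ j, R j j = (p : ℤ) * (p * ((p : ℤ) - 1)) := by
      simp only [hR]
      rw [Finset.sum_comm, Finset.sum_congr rfl fun χ _ => hinner χ χ, ← Finset.mul_sum,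
        ← Finset.mul_sum, htr]
    rw [this]
    ring
  have e3 : ∀ i j, (R i j - target U i j) ^ 2 =
      R i j * R i j + target U i j * target U i j - 2 * (R i j * target U i j) := fun i j => by ring
  have hzero : ∑ j, ∑ i, (R i j - target U i j) ^ 2 = 0 := by
    simp only [e3, Finset.sum_add_distrib, Finset.sum_sub_distrib, ← Finset.mul_sum,
      hRR, hRT, sum_target_sq, ← he]
    ring
  have h1 := (Finset.sum_eq_zero_iff_of_nonneg fun j _ =>
    Finset.sum_nonneg fun i _ => sq_nonneg _).mp hzero j (Finset.mem_univ _)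
  have h2 := (Finset.sum_eq_zero_iff_of_nonneg fun i _ => sq_nonneg _).mp h1 i (Finset.mem_univ _)
  exact sub_eq_zero.mp (sq_eq_zero_iff.mp h2)

/-- The Gram matrix of the rows normalised at zero. -/
theorem rows_gram (hinv : ∀ χ i, ∀ w ∈ U, f χ (i * ((w : (ZMod p)ˣ) : ZMod p)) = f χ i)
    (hY : ∀ χ ψ, (Nat.card U : ℤ) * Y χ ψ =
      (p : ℤ) * ∑ i, f χ i * f ψ i - (∑ i, f χ i) * ∑ i, f ψ i)
    (hYY : ∀ χ, ∑ φ, Y χ φ * Y φ χ = (p : ℤ) * Y χ χ)
    (htr : (Nat.card U : ℤ) * ∑ χ, Y χ χ = (p : ℤ) * ((p : ℤ) - 1)) {i j : ZMod p} (hi : i ≠ 0)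
    (hj : j ≠ 0) [Decidable (∃ w ∈ U, i = j * ((w : (ZMod p)ˣ) : ZMod p))] :
    ∑ χ, (f χ i - f χ 0) * (f χ j - f χ 0) =
      (Nat.card U : ℤ) + if ∃ w ∈ U, i = j * ((w : (ZMod p)ˣ) : ZMod p) then 1 else 0 := by
  classical
  have hg := centred_gram U hinv hY hYY htr
  have hp0 : (p : ℤ) ≠ 0 := by exact_mod_cast hp.out.ne_zero
  apply mul_left_cancel₀ (pow_ne_zero 2 hp0)
  have e : ∀ χ, (p : ℤ) ^ 2 * ((f χ i - f χ 0) * (f χ j - f χ 0)) =
      centred f χ i * centred f χ j - centred f χ i * centred f χ 0 -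
        centred f χ 0 * centred f χ j + centred f χ 0 * centred f χ 0 := fun χ => by
    simp only [centred]; ring
  rw [Finset.mul_sum, Finset.sum_congr rfl fun χ _ => e χ, Finset.sum_add_distrib,
    Finset.sum_sub_distrib, Finset.sum_sub_distrib, hg, hg, hg, hg]
  have hz : ∀ w : U, (if (0 : ZMod p) = j * ((w : (ZMod p)ˣ) : ZMod p) then (1 : ℤ) else 0) = 0 :=
    fun w => if_neg fun h => mul_ne_zero hj (Units.ne_zero _) h.symm
  simp only [target, Finset.sum_sub_distrib, ← Finset.mul_sum, Finset.sum_const, Finset.card_univ,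
    ← Nat.card_eq_fintype_card, nsmul_eq_mul, zero_mul, if_true, if_neg hi,
    hz, Finset.sum_const_zero, mul_one, mul_zero]
  by_cases h : ∃ w ∈ U, i = j * ((w : (ZMod p)ˣ) : ZMod p)
  · rw [if_pos h]
    obtain ⟨w, hw, rfl⟩ := h
    rw [Finset.sum_eq_single (⟨w, hw⟩ : U) (fun v _ hv => if_neg fun h => hv
      (Subtype.ext (Units.ext (mul_left_cancel₀ hj h)).symm)) (by simp), if_pos rfl]
    ring
  · rw [if_neg h, Finset.sum_eq_zero fun (v : U) _ => if_neg fun h' => h ⟨_, v.2, h'⟩]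
    ring

/-- The form of a block of defect one takes no small nonzero values. -/
theorem rows_bound (hinv : ∀ χ i, ∀ w ∈ U, f χ (i * ((w : (ZMod p)ˣ) : ZMod p)) = f χ i)
    (hY : ∀ χ ψ, (Nat.card U : ℤ) * Y χ ψ =
      (p : ℤ) * ∑ i, f χ i * f ψ i - (∑ i, f χ i) * ∑ i, f ψ i)
    (hYY : ∀ χ, ∑ φ, Y χ φ * Y φ χ = (p : ℤ) * Y χ χ)
    (htr : (Nat.card U : ℤ) * ∑ χ, Y χ χ = (p : ℤ) * ((p : ℤ) - 1)) (w : Φ → ℤ)
    (hw : ∀ χ, 0 < w χ) (hw0 : ∀ χ, ∑ ψ, w ψ * Y ψ χ = 0) (hnz : ∀ χ, Y χ χ ≠ 0) (z : Φ → ℤ)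
    {l : ℤ} (hl : (p : ℤ) * l = (p : ℤ) * Fintype.card Φ - ∑ χ, Y χ χ) {Q : ℤ}
    (hQ : Q = (p : ℤ) * ∑ χ, z χ ^ 2 - ∑ χ, ∑ ψ, z χ * z ψ * Y χ ψ) : Q = 0 ∨ l ≤ Q := by
  classical
  set e : ℤ := (Nat.card U : ℤ) with he
  have he0 : e ≠ 0 := by rw [he]; exact_mod_cast Nat.card_pos.ne'
  have hp0 : (p : ℤ) ≠ 0 := by exact_mod_cast hp.out.ne_zero
  let J := (ZMod p)ˣ ⧸ U
  letI : Fintype J := Fintype.ofFinite _
  let A : Φ → J → ℤ := fun χ q => f χ ((Quotient.out q : (ZMod p)ˣ) : ZMod p) - f χ 0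
  set t : ℤ := (Fintype.card J : ℤ) with ht
  have het : e * t + 1 = (p : ℤ) := by
    have h := Subgroup.card_eq_card_quotient_mul_card_subgroup U
    rw [Nat.card_units, Nat.card_zmod, Nat.card_eq_fintype_card (α := (ZMod p)ˣ ⧸ U)] at h
    have h1 : 1 ≤ p := hp.out.one_le
    have h2 : ((p - 1 : ℕ) : ℤ) = ((Fintype.card J * Nat.card U : ℕ) : ℤ) := by exact_mod_cast h
    rw [Nat.cast_sub h1, Nat.cast_mul, Nat.cast_one] at h2
    rw [ht, he]
    linarith
  have hAw : ∀ χ (q : J) (a : (ZMod p)ˣ), QuotientGroup.mk a = q →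
      A χ q = f χ (a : ZMod p) - f χ 0 := by
    intro χ q a ha
    subst ha
    obtain ⟨v, hv⟩ := QuotientGroup.mk_out_eq_mul U a
    show f χ _ - _ = _
    rw [hv, Units.val_mul, hinv χ _ v v.2]
  -- sums over all residues
  have hsum : ∀ F : ZMod p → ℤ, ∑ i, F i = F 0 + ∑ a : (ZMod p)ˣ, F (a : ZMod p) := fun F => by
    rw [← Finset.add_sum_erase _ _ (Finset.mem_univ (0 : ZMod p))]
    congr 1
    exact (Finset.sum_bij (fun (a : (ZMod p)ˣ) _ => (a : ZMod p))
      (fun a _ => Finset.mem_erase.mpr ⟨Units.ne_zero a, Finset.mem_univ _⟩)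
      (fun a _ b _ h => Units.ext h)
      (fun i hi => ⟨Units.mk0 i (Finset.ne_of_mem_erase hi), Finset.mem_univ _, rfl⟩)
      fun a _ => rfl).symm
  have hfib : ∀ F : J → ℤ, ∑ a : (ZMod p)ˣ, F (QuotientGroup.mk a) = e * ∑ q, F q := fun F => by
    rw [Finset.mul_sum, ← Finset.sum_fiberwise Finset.univ (fun a : (ZMod p)ˣ => (QuotientGroup.mk a : J))]
    refine Finset.sum_congr rfl fun q _ => ?_
    rw [Finset.sum_congr rfl fun a ha => congrArg F (Finset.mem_filter.mp ha).2, Finset.sum_const,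
      nsmul_eq_mul, he]
    congr 2
    rw [Nat.card_eq_fintype_card, ← Finset.card_univ]
    refine Finset.card_bij (fun a ha => (⟨(Quotient.out q)⁻¹ * a, QuotientGroup.eq.mp
      ((QuotientGroup.out_eq' q).trans (Finset.mem_filter.mp ha).2.symm)⟩ : U))
      (fun a ha => Finset.mem_univ _) (fun a _ b _ h => mul_left_cancel (congrArg Subtype.val h))
      fun v _ => ⟨Quotient.out q * v, Finset.mem_filter.mpr ⟨Finset.mem_univ _, ?_⟩,
        Subtype.ext (inv_mul_cancel_left _ _)⟩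
    rw [QuotientGroup.mk_mul_of_mem _ v.2, QuotientGroup.out_eq']
  have hsumF : ∀ c : Φ → ℤ, ∀ i : ZMod p, ∑ χ, c χ * f χ i =
      ∑ χ, c χ * f χ 0 + ∑ χ, c χ * (f χ i - f χ 0) := fun c i => by
    rw [← Finset.sum_add_distrib]; exact Finset.sum_congr rfl fun χ _ => by ring
  -- the form on a combination
  have hform : ∀ c : Φ → ℤ, ∑ χ, ∑ ψ, c χ * c ψ * Y χ ψ =
      (p : ℤ) * ∑ q, (∑ χ, c χ * A χ q) ^ 2 - e * (∑ q, ∑ χ, c χ * A χ q) ^ 2 := by
    intro c
    apply mul_left_cancel₀ he0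
    set G : ZMod p → ℤ := fun i => ∑ χ, c χ * f χ i with hG
    have h1 : e * ∑ χ, ∑ ψ, c χ * c ψ * Y χ ψ = (p : ℤ) * ∑ i, G i ^ 2 - (∑ i, G i) ^ 2 := by
      have e1 : ∑ i, G i ^ 2 = ∑ χ, ∑ ψ, c χ * c ψ * ∑ i, f χ i * f ψ i := by
        simp only [hG, sq, Finset.sum_mul_sum]
        rw [Finset.sum_comm]
        refine Finset.sum_congr rfl fun χ _ => ?_
        rw [Finset.sum_comm]
        refine Finset.sum_congr rfl fun ψ _ => ?_
        rw [Finset.mul_sum]
        exact Finset.sum_congr rfl fun i _ => by ring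
      have e2 : ∑ i, G i = ∑ χ, c χ * ∑ i, f χ i := by
        simp only [hG, Finset.mul_sum]
        exact Finset.sum_comm
      rw [e1, e2, sq, Finset.sum_mul_sum, Finset.mul_sum, Finset.mul_sum, ← Finset.sum_sub_distrib]
      refine Finset.sum_congr rfl fun χ _ => ?_
      rw [Finset.mul_sum, Finset.mul_sum, ← Finset.sum_sub_distrib]
      refine Finset.sum_congr rfl fun ψ _ => ?_
      linear_combination c χ * c ψ * hY χ ψ
    have h2 : ∀ a : (ZMod p)ˣ, G (a : ZMod p) =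
        G 0 + ∑ χ, c χ * A χ (QuotientGroup.mk a) := fun a => by
      simp only [hG]
      rw [hsumF]
      exact congrArg _ (Finset.sum_congr rfl fun χ _ => by rw [hAw χ _ a rfl])
    rw [h1, hsum, hsum, Finset.sum_congr rfl fun a _ => h2 a,
      Finset.sum_congr rfl fun a _ => congrArg (· ^ 2) (h2 a),
      hfib fun q => (G 0 + ∑ χ, c χ * A χ q) ^ 2, hfib fun q => G 0 + ∑ χ, c χ * A χ q]
    simp only [add_sq, Finset.sum_add_distrib, Finset.sum_const, Finset.card_univ, nsmul_eq_mul,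
      ← Finset.mul_sum, ← ht, ← het]
    ring
  have hdiag : ∀ χ, Y χ χ = (p : ℤ) * ∑ q, A χ q ^ 2 - e * (∑ q, A χ q) ^ 2 := fun χ => by
    have h := hform fun φ => if φ = χ then 1 else 0
    simpa [ite_mul, Finset.sum_ite_eq'] using h
  have hA0 : ∀ q, ∑ χ, w χ * A χ q = 0 := by
    -- the rows orthogonal to the positive vector
    have h0 : ∑ i, (∑ χ, w χ * centred f χ i) ^ 2 = 0 := by
      simp only [sq, Finset.sum_mul_sum]
      rw [Finset.sum_comm]
      refine Eq.trans (Finset.sum_congr rfl fun χ _ => ?_) (Finset.sum_const_zero (s := Finset.univ))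
      rw [Finset.sum_comm, Finset.sum_congr rfl fun ψ _ => show (∑ i, w χ * centred f χ i *
          (w ψ * centred f ψ i)) = w χ * ((p : ℤ) * (w ψ * (e * Y ψ χ))) by
        rw [Finset.sum_congr rfl fun i _ => show w χ * centred f χ i * (w ψ * centred f ψ i) =
          w χ * w ψ * (centred f ψ i * centred f χ i) by ring, ← Finset.mul_sum, centred_inner, ← hY]
        ring]
      simp only [← mul_assoc (w _) e, mul_comm (w _) e, mul_assoc e, ← Finset.mul_sum, hw0,
        mul_zero]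
    have hz := fun i => sq_eq_zero_iff.mp
      ((Finset.sum_eq_zero_iff_of_nonneg fun i _ => sq_nonneg _).mp h0 i (Finset.mem_univ _))
    intro q
    apply mul_left_cancel₀ hp0
    rw [mul_zero, show (p : ℤ) * ∑ χ, w χ * A χ q =
        ∑ χ, w χ * centred f χ ((Quotient.out q : (ZMod p)ˣ) : ZMod p) -
          ∑ χ, w χ * centred f χ 0 by
      rw [← Finset.sum_sub_distrib, Finset.mul_sum]
      exact Finset.sum_congr rfl fun χ _ => by simp only [centred, A]; ring, hz, hz, sub_zero]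
  have hnz' : ∀ χ, ∃ q, A χ q ≠ 0 := fun χ => by
    by_contra hne
    push Not at hne
    exact hnz χ (by rw [hdiag]; simp [hne])
  have hg : ∀ q r : J, ∑ χ, A χ q * A χ r = e + if q = r then 1 else 0 := by
    intro q r
    rw [rows_gram U hinv hY hYY htr (Units.ne_zero _) (Units.ne_zero _)]
    refine congrArg _ (if_congr ⟨?_, ?_⟩ rfl rfl)
    · rintro ⟨v, hv, h⟩
      rw [← QuotientGroup.out_eq' q, ← QuotientGroup.out_eq' r,
        show Quotient.out q = Quotient.out r * v from Units.ext h, QuotientGroup.mk_mul_of_mem _ hv]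
    · rintro rfl
      exact ⟨1, one_mem _, by simp⟩
  have htrY : ∑ χ, Y χ χ = (p : ℤ) * t := by
    apply mul_left_cancel₀ he0
    rw [htr, ← het]; ring
  have hl' : l = (Fintype.card Φ : ℤ) - t := mul_left_cancel₀ hp0 (by rw [hl, htrY]; ring)
  rw [hl']
  haveI : Nonempty J := inferInstance
  exact gram_bound hg w hw hA0 hnz' z (by rw [hQ, hform, ← ht, het])

end Cfsg.Agent.DefectTwo
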